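/-
Quasi-dihedral (semidihedral) 2-groups: normal form, the subgroups `part k e`, classification of the
four-subgroups and of the quaternion subgroups of order 8.
-/
import Cfsg.Prelude.Def_CaseTheorems
import Cfsg.Agent.Lib.PGroup.CyclicMaximal
import Cfsg.Agent.Lib.PGroup.Frattini

set_option autoImplicit false

namespace Cfsg.Agent.TwoGroups

universe u

variable {S : Type u} [Group S]

/-- Generators of a quasi-dihedral group of order `2 ^ (m + 4)`. -/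
structure QDGen (x y : S) (m : ℕ) : Prop where
  card : Nat.card S = 2 * (8 * 2 ^ m)
  ordX : orderOf x = 8 * 2 ^ m
  ordY : orderOf y = 2
  conj : y * x * y⁻¹ = x ^ ((4 : ℤ) * 2 ^ m - 1)

theorem exists_qdGen [Finite S] (hS : Cfsg.IsQuasiDihedral S) : ∃ (x y : S) (m : ℕ), QDGen x y m := by
  obtain ⟨n, hn, hc, x, y, hx, hy, hxy⟩ := hS
  obtain ⟨m, rfl⟩ : ∃ m, n = m + 3 := ⟨n - 3, by omega⟩
  refine ⟨x, y, m, by rw [hc]; ring, by rw [hx]; ring, hy, ?_⟩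
  rw [hxy, ← zpow_natCast, show m + 3 - 1 = m + 2 by omega, Nat.cast_sub Nat.one_le_two_pow]
  push_cast
  ring_nf

namespace QDGen

variable {x y : S} {m : ℕ} (h : QDGen x y m)
include h

theorem zpow_eq_iff (i j : ℤ) : x ^ i = x ^ j ↔ (8 : ℤ) * 2 ^ m ∣ i - j := by
  rw [PGroup.zpow_eq_zpow_iff_dvd, h.ordX]
  push_cast
  rfl

theorem zpow_eq_one_iff (i : ℤ) : x ^ i = 1 ↔ (8 : ℤ) * 2 ^ m ∣ i := by
  simpa using h.zpow_eq_iff i 0

theorem y_mul_self : y * y = 1 := by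
  rw [← pow_two, ← h.ordY, pow_orderOf_eq_one]

theorem y_inv : y⁻¹ = y := inv_eq_of_mul_eq_one_right h.y_mul_self

theorem y_mul_zpow (i : ℤ) : y * x ^ i = x ^ (((4 : ℤ) * 2 ^ m - 1) * i) * y :=
  mul_inv_eq_iff_eq_mul.1 (PGroup.conj_zpow h.conj i)

theorem not_mem_zpowers : y ∉ Subgroup.zpowers x := by
  rintro ⟨i, hi⟩
  have hc : y * x * y⁻¹ = x := by rw [← hi]; group
  rw [h.conj] at hc
  have h1 := (h.zpow_eq_iff ((4 : ℤ) * 2 ^ m - 1) 1).1 (by rw [zpow_one]; exact hc)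
  have h2 : (8 : ℤ) * 2 ^ m ≤ 4 * 2 ^ m - 1 - 1 :=
    Int.le_of_dvd (by have : (0 : ℤ) < 2 ^ m := by positivity
                      omega) h1
  have : (0 : ℤ) < 2 ^ m := by positivity
  omega

theorem xy_ne (i j : ℤ) : x ^ i * y ≠ x ^ j := fun e =>
  h.not_mem_zpowers ⟨-i + j, by rw [← mul_right_inj (x ^ i), e, ← zpow_add]; ring_nf⟩

theorem xy_eq_iff (i j : ℤ) : x ^ i * y = x ^ j * y ↔ (8 : ℤ) * 2 ^ m ∣ i - j := by
  rw [mul_left_inj, h.zpow_eq_iff]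

theorem index_zpowers [Finite S] : (Subgroup.zpowers x).index = 2 := by
  have h1 := (Subgroup.zpowers x).card_mul_index
  rw [Nat.card_zpowers, h.ordX, h.card, mul_comm 2] at h1
  exact Nat.eq_of_mul_eq_mul_left (by positivity) h1

theorem exists_form [Finite S] (g : S) : ∃ i : ℤ, g = x ^ i ∨ g = x ^ i * y := by
  by_cases hg : g ∈ Subgroup.zpowers x
  · obtain ⟨i, hi⟩ := hg
    exact ⟨i, Or.inl hi.symm⟩
  · obtain ⟨i, hi⟩ : g * y⁻¹ ∈ Subgroup.zpowers x := by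
      rw [Subgroup.mul_mem_iff_of_index_two h.index_zpowers]
      simp [hg, h.not_mem_zpowers]
    exact ⟨i, Or.inr (by simp only at hi; rw [hi]; group)⟩

theorem isPGroup [Finite S] : IsPGroup 2 S :=
  IsPGroup.of_card (n := m + 4) (by rw [h.card]; ring)

/-! ### Multiplication rules -/

omit h in
theorem x_mul_x (i j : ℤ) : x ^ i * x ^ j = x ^ (i + j) := (zpow_add x i j).symm

omit h in
theorem x_mul_xy (i j : ℤ) : x ^ i * (x ^ j * y) = x ^ (i + j) * y := by rw [← mul_assoc, x_mul_x]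

theorem xy_mul_x (i j : ℤ) : x ^ i * y * x ^ j = x ^ (i + (4 * 2 ^ m - 1) * j) * y := by
  rw [mul_assoc, h.y_mul_zpow, ← mul_assoc, x_mul_x]

theorem xy_mul_xy (i j : ℤ) : x ^ i * y * (x ^ j * y) = x ^ (i + (4 * 2 ^ m - 1) * j) := by
  rw [← mul_assoc, h.xy_mul_x, mul_assoc, h.y_mul_self, mul_one]

theorem conj_xy_by_x (j i : ℤ) :
    x ^ j * (x ^ i * y) * (x ^ j)⁻¹ = x ^ (i + j * (1 - (4 * 2 ^ m - 1))) * y := by
  rw [x_mul_xy, ← zpow_neg, h.xy_mul_x]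
  ring_nf

theorem conj_xy_by_xy (j i : ℤ) :
    x ^ j * y * (x ^ i * y) * (x ^ j * y)⁻¹ =
      x ^ (j + (4 * 2 ^ m - 1) * i - (4 * 2 ^ m - 1) * j) * y := by
  rw [h.xy_mul_xy, mul_inv_rev, h.y_inv, ← zpow_neg, h.y_mul_zpow, x_mul_xy]
  ring_nf

theorem conj_x_by_xy (j i : ℤ) :
    x ^ j * y * x ^ i * (x ^ j * y)⁻¹ = x ^ ((4 * 2 ^ m - 1) * i) := by
  rw [h.xy_mul_x, mul_inv_rev, h.y_inv, mul_assoc, ← mul_assoc y, h.y_mul_self, one_mul, ← zpow_neg,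
    x_mul_x]
  ring_nf

omit h in
theorem coprime (m : ℕ) : IsCoprime ((1 : ℤ) - 2 * 2 ^ m) (4 * 2 ^ m) :=
  ⟨1 + 2 * 2 ^ m, 2 ^ m, by ring⟩

/-- Elements `x ^ i * y` with `i` of the same parity are conjugate. -/
theorem exists_conj {i i' : ℤ} (hii : 2 ∣ i' - i) :
    ∃ j : ℤ, x ^ j * (x ^ i * y) * (x ^ j)⁻¹ = x ^ i' * y := by
  obtain ⟨k, hk⟩ := hii
  refine ⟨k * (1 + 2 * 2 ^ m), ?_⟩
  rw [h.conj_xy_by_x, h.xy_eq_iff, show i' = i + 2 * k by linarith]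
  exact ⟨-(2 ^ m * k), by ring⟩

theorem zpow_conj_ne {i j : ℤ} (g : S) [Finite S] : g * x ^ i * g⁻¹ ≠ x ^ j * y := by
  obtain ⟨k, rfl | rfl⟩ := h.exists_form g
  · rw [← zpow_neg, x_mul_x, x_mul_x]; exact (h.xy_ne _ _).symm
  · rw [h.conj_x_by_xy]; exact (h.xy_ne _ _).symm

/-- `y` inverts nothing but the obvious: the fixed powers of `x`. -/
theorem dvd_of_fixed {i : ℤ} (hi : (8 : ℤ) * 2 ^ m ∣ (4 * 2 ^ m - 1) * i - i) :
    (4 : ℤ) * 2 ^ m ∣ i := by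
  obtain ⟨k, hk⟩ := hi
  refine (coprime m).symm.dvd_of_dvd_mul_left ⟨-k, ?_⟩
  linarith

/-! ### Orders -/

theorem x_sq_eq_one_iff (i : ℤ) : (x ^ i) ^ 2 = 1 ↔ (4 : ℤ) * 2 ^ m ∣ i := by
  rw [pow_two, x_mul_x, h.zpow_eq_one_iff, show (8 : ℤ) * 2 ^ m = 2 * (4 * 2 ^ m) by ring,
    show i + i = 2 * i by ring, mul_dvd_mul_iff_left (by norm_num)]

theorem xy_sq (i : ℤ) : (x ^ i * y) ^ 2 = x ^ ((4 : ℤ) * 2 ^ m * i) := by
  rw [pow_two, h.xy_mul_xy]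
  ring_nf

theorem xy_sq_eq_one_iff (i : ℤ) : (x ^ i * y) ^ 2 = 1 ↔ 2 ∣ i := by
  rw [h.xy_sq, h.zpow_eq_one_iff, show (8 : ℤ) * 2 ^ m = 4 * 2 ^ m * 2 by ring,
    mul_dvd_mul_iff_left (by positivity)]

theorem x_pow_four_eq_one_iff (i : ℤ) : (x ^ i) ^ 4 = 1 ↔ (2 : ℤ) * 2 ^ m ∣ i := by
  rw [← zpow_natCast, ← zpow_mul, h.zpow_eq_one_iff, show (8 : ℤ) * 2 ^ m = 2 * 2 ^ m * 4 by ring]
  push_cast
  rw [mul_dvd_mul_iff_right (by norm_num)]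

theorem xy_pow_four (i : ℤ) : (x ^ i * y) ^ 4 = 1 := by
  rw [show (4 : ℕ) = 2 * 2 from rfl, pow_mul, h.xy_sq, h.x_sq_eq_one_iff]
  exact dvd_mul_right _ _

/-! ### The centre -/

theorem x_mem_center_iff [Finite S] (i : ℤ) : x ^ i ∈ Subgroup.center S ↔ (4 : ℤ) * 2 ^ m ∣ i := by
  rw [Subgroup.mem_center_iff]
  constructor
  · intro hc
    have := hc y
    rw [h.y_mul_zpow, mul_left_inj, h.zpow_eq_iff] at this
    exact h.dvd_of_fixed this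
  · intro hi g
    obtain ⟨k, rfl | rfl⟩ := h.exists_form g
    · rw [x_mul_x, x_mul_x, add_comm]
    · rw [h.xy_mul_x, x_mul_xy, h.xy_eq_iff]
      obtain ⟨c, rfl⟩ := hi
      exact ⟨c * (2 * 2 ^ m - 1), by ring⟩

theorem xy_not_mem_center (i : ℤ) : x ^ i * y ∉ Subgroup.center S := by
  intro hc
  have h1 := Subgroup.mem_center_iff.1 hc (x ^ (1 : ℤ))
  rw [x_mul_xy, h.xy_mul_x, h.xy_eq_iff] at h1
  obtain ⟨c, hc⟩ := h1
  have hpos : (0 : ℤ) < 2 ^ m := by positivity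
  rcases Int.lt_or_le c 0 with hc0 | hc0
  · nlinarith
  · rcases hc0.eq_or_lt with rfl | hc1 <;> nlinarith

theorem center_eq [Finite S] : Subgroup.center S = Subgroup.zpowers (x ^ ((4 : ℤ) * 2 ^ m)) := by
  ext g
  obtain ⟨i, rfl | rfl⟩ := h.exists_form g
  · rw [h.x_mem_center_iff]
    constructor
    · rintro ⟨c, rfl⟩; exact ⟨c, (zpow_mul x _ c).symm⟩
    · rintro ⟨c, hc⟩
      simp only at hc
      rw [← zpow_mul, h.zpow_eq_iff] at hc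
      have h8 : (4 : ℤ) * 2 ^ m ∣ 4 * 2 ^ m * c - i := dvd_trans ⟨2, by ring⟩ hc
      exact (dvd_sub_right (dvd_mul_right _ c)).1 h8
  · refine iff_of_false (h.xy_not_mem_center i) ?_
    rintro ⟨c, hc⟩
    simp only at hc
    rw [← zpow_mul] at hc
    exact h.xy_ne _ _ hc.symm

theorem card_center [Finite S] : Nat.card (Subgroup.center S) = 2 := by
  rw [h.center_eq, Nat.card_zpowers]
  refine orderOf_eq_prime ?_ fun e => ?_
  · rw [h.x_sq_eq_one_iff]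
  · rw [h.zpow_eq_one_iff] at e
    have := Int.le_of_dvd (by positivity) e
    have : (0 : ℤ) < 2 ^ m := by positivity
    omega

/-! ### The subgroups `part k e` -/

theorem dvd_eight {k : ℕ} (hk : k ∣ 4 * 2 ^ m) : (k : ℤ) ∣ 8 * 2 ^ m := by
  have h4 : (k : ℤ) ∣ 4 * 2 ^ m := by exact_mod_cast hk
  exact h4.trans ⟨2, by ring⟩

theorem dvd_four {k : ℕ} (hk : k ∣ 4 * 2 ^ m) : (k : ℤ) ∣ 4 * 2 ^ m := by exact_mod_cast hk

end QDGen

/-- The subgroup of the `x ^ i` with `k ∣ i` and the `x ^ i * y` with `k ∣ i - e`. -/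
def QDGen.part [Finite S] {x y : S} {m : ℕ} (h : QDGen x y m) (k : ℕ) (hk : k ∣ 4 * 2 ^ m) (e : ℤ) :
    Subgroup S where
  carrier := {g | ∃ i : ℤ, (g = x ^ i ∧ (k : ℤ) ∣ i) ∨ (g = x ^ i * y ∧ (k : ℤ) ∣ i - e)}
  one_mem' := ⟨0, Or.inl ⟨by simp, dvd_zero _⟩⟩
  mul_mem' {a b} ha hb := by
    obtain ⟨i, ⟨rfl, hi⟩ | ⟨rfl, hi⟩⟩ := ha <;> obtain ⟨j, ⟨rfl, hj⟩ | ⟨rfl, hj⟩⟩ := hb
    · exact ⟨_, Or.inl ⟨QDGen.x_mul_x i j, dvd_add hi hj⟩⟩
    · refine ⟨_, Or.inr ⟨QDGen.x_mul_xy i j, ?_⟩⟩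
      rw [show i + j - e = i + (j - e) by ring]
      exact dvd_add hi hj
    · refine ⟨_, Or.inr ⟨h.xy_mul_x i j, ?_⟩⟩
      rw [show i + (4 * 2 ^ m - 1) * j - e = (i - e) + (4 * 2 ^ m - 1) * j by ring]
      exact dvd_add hi (dvd_mul_of_dvd_right hj _)
    · refine ⟨_, Or.inl ⟨h.xy_mul_xy i j, ?_⟩⟩
      rw [show i + ((4 : ℤ) * 2 ^ m - 1) * j = (i - e) + (4 * 2 ^ m - 1) * (j - e) + 4 * 2 ^ m * e by
        ring]
      exact dvd_add (dvd_add hi (dvd_mul_of_dvd_right hj _)) (dvd_mul_of_dvd_left (h.dvd_four hk) _)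
  inv_mem' {a} ha := by
    obtain ⟨i, ⟨rfl, hi⟩ | ⟨rfl, hi⟩⟩ := ha
    · exact ⟨-i, Or.inl ⟨(zpow_neg x i).symm, hi.neg_right⟩⟩
    · refine ⟨i * (1 - 4 * 2 ^ m), Or.inr ⟨inv_eq_of_mul_eq_one_right ?_, ?_⟩⟩
      · rw [h.xy_mul_xy, h.zpow_eq_one_iff]
        exact ⟨i * (1 - 2 * 2 ^ m), by ring⟩
      · rw [show i * (1 - 4 * 2 ^ m) - e = (i - e) - 4 * 2 ^ m * i by ring]
        exact dvd_sub hi (dvd_mul_of_dvd_left (h.dvd_four hk) _)

namespace QDGen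

variable [Finite S] {x y : S} {m : ℕ} (h : QDGen x y m) {k : ℕ} (hk : k ∣ 4 * 2 ^ m) {e : ℤ}
include h hk

theorem x_mem_part {i : ℤ} : x ^ i ∈ h.part k hk e ↔ (k : ℤ) ∣ i := by
  refine ⟨?_, fun hi => ⟨i, Or.inl ⟨rfl, hi⟩⟩⟩
  rintro ⟨j, ⟨hj, hd⟩ | ⟨hj, hd⟩⟩
  · have h1 := (h.dvd_eight hk).trans ((h.zpow_eq_iff i j).1 hj)
    exact (dvd_sub_left hd).1 h1
  · exact absurd hj.symm (h.xy_ne _ _)

theorem xy_mem_part {i : ℤ} : x ^ i * y ∈ h.part k hk e ↔ (k : ℤ) ∣ i - e := by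
  refine ⟨?_, fun hi => ⟨i, Or.inr ⟨rfl, hi⟩⟩⟩
  rintro ⟨j, ⟨hj, hd⟩ | ⟨hj, hd⟩⟩
  · exact absurd hj (h.xy_ne _ _)
  · have h1 := (h.dvd_eight hk).trans ((h.xy_eq_iff i j).1 hj)
    have := dvd_add h1 hd
    rwa [show i - j + (j - e) = i - e by ring] at this

theorem part_congr {e' : ℤ} (he : (k : ℤ) ∣ e - e') : h.part k hk e = h.part k hk e' := by
  ext g
  obtain ⟨i, rfl | rfl⟩ := h.exists_form g
  · rw [h.x_mem_part hk, h.x_mem_part hk]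
  · rw [h.xy_mem_part hk, h.xy_mem_part hk, show i - e' = i - e + (e - e') by ring, dvd_add_left he]

theorem map_part (j : ℤ) :
    (h.part k hk e).map (MulAut.conj (x ^ j)).toMonoidHom =
      h.part k hk (e + j * (1 - (4 * 2 ^ m - 1))) := by
  ext g
  simp only [Subgroup.mem_map, MulEquiv.coe_toMonoidHom, MulAut.conj_apply]
  constructor
  · rintro ⟨a, ⟨i, ⟨rfl, hi⟩ | ⟨rfl, hi⟩⟩, rfl⟩
    · rwa [← zpow_neg, x_mul_x, x_mul_x, h.x_mem_part hk, show j + i + -j = i by ring]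
    · rw [h.conj_xy_by_x, h.xy_mem_part hk]
      ring_nf at hi ⊢
      exact hi
  · rintro ⟨i, ⟨rfl, hi⟩ | ⟨rfl, hi⟩⟩
    · exact ⟨x ^ i, (h.x_mem_part hk).2 hi, by rw [← zpow_neg, x_mul_x, x_mul_x]; ring_nf⟩
    · refine ⟨x ^ (i - j * (1 - (4 * 2 ^ m - 1))) * y, (h.xy_mem_part hk).2 ?_, ?_⟩
      · rwa [sub_sub, add_comm]
      · rw [h.conj_xy_by_x]; ring_nf

theorem relIndex_zpowers_part : (Subgroup.zpowers (x ^ k)).relIndex (h.part k hk e) = 2 := by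
  have hmem : ∀ i : ℤ, x ^ i ∈ Subgroup.zpowers (x ^ k) ↔ (k : ℤ) ∣ i := by
    intro i
    constructor
    · rintro ⟨c, hc⟩
      simp only at hc
      rw [← zpow_natCast, ← zpow_mul, h.zpow_eq_iff] at hc
      exact (dvd_sub_right (dvd_mul_right _ c)).1 ((h.dvd_eight hk).trans hc)
    · rintro ⟨c, rfl⟩
      exact ⟨c, by simp only; rw [← zpow_natCast, ← zpow_mul]⟩
  have hmem' : ∀ i : ℤ, x ^ i * y ∉ Subgroup.zpowers (x ^ k) := by
    rintro i ⟨c, hc⟩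
    simp only at hc
    rw [← zpow_natCast, ← zpow_mul] at hc
    exact h.xy_ne _ _ hc.symm
  have he : x ^ e * y ∈ h.part k hk e := (h.xy_mem_part hk).2 (by simp)
  rw [Subgroup.relIndex, Subgroup.index_eq_two_iff]
  refine ⟨⟨_, he⟩, fun b => ?_⟩
  obtain ⟨b, i, ⟨rfl, hi⟩ | ⟨rfl, hi⟩⟩ := b
  · refine Or.inr ⟨?_, ?_⟩
    · rw [Subgroup.mem_subgroupOf, hmem]; exact hi
    · rw [Subgroup.mem_subgroupOf, Subgroup.coe_mul, x_mul_xy]; exact hmem' _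
  · refine Or.inl ⟨?_, ?_⟩
    · rw [Subgroup.mem_subgroupOf, Subgroup.coe_mul, h.xy_mul_xy, hmem,
        show i + ((4 : ℤ) * 2 ^ m - 1) * e = (i - e) + 4 * 2 ^ m * e by ring]
      exact dvd_add hi (dvd_mul_of_dvd_left (h.dvd_four hk) _)
    · rw [Subgroup.mem_subgroupOf]; exact hmem' _

theorem card_part : Nat.card (h.part k hk e) = 2 * (8 * 2 ^ m / k) := by
  have hle : Subgroup.zpowers (x ^ k) ≤ h.part k hk e :=
    Subgroup.zpowers_le.2 (by rw [← zpow_natCast]; exact (h.x_mem_part hk).2 dvd_rfl)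
  rw [← Subgroup.relIndex_bot_left, ← Subgroup.relIndex_mul_relIndex ⊥ _ _ bot_le hle,
    h.relIndex_zpowers_part hk, Subgroup.relIndex_bot_left, Nat.card_zpowers,
    orderOf_pow_of_dvd (fun e => by simp [e] at hk), h.ordX, mul_comm]
  rw [h.ordX]
  exact hk.trans ⟨2, by ring⟩

theorem relIndex_part {k' : ℕ} (hk' : k' ∣ 4 * 2 ^ m) (hkk : k = 2 * k') :
    (h.part k hk e).relIndex (h.part k' hk' e) = 2 := by
  have hle : h.part k hk e ≤ h.part k' hk' e := by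
    intro g hg
    have hd : (k' : ℤ) ∣ k := by rw [hkk]; push_cast; exact dvd_mul_left _ _
    obtain ⟨i, ⟨rfl, hi⟩ | ⟨rfl, hi⟩⟩ := hg
    · exact (h.x_mem_part hk').2 (hd.trans hi)
    · exact (h.xy_mem_part hk').2 (hd.trans hi)
  have h1 := Subgroup.relIndex_mul_relIndex ⊥ _ _ bot_le hle
  rw [Subgroup.relIndex_bot_left, Subgroup.relIndex_bot_left, h.card_part hk, h.card_part hk'] at h1
  have hk0 : k' ≠ 0 := fun e => by simp [e] at hk'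
  obtain ⟨c, hc⟩ := hk
  rw [show 8 * 2 ^ m / k = 2 * c by
      rw [show 8 * 2 ^ m = k * (2 * c) by linarith, Nat.mul_div_cancel_left _ (by omega)],
    show 8 * 2 ^ m / k' = 4 * c by
      rw [show 8 * 2 ^ m = k' * (4 * c) by rw [hkk] at hc; linarith,
        Nat.mul_div_cancel_left _ (by omega)]] at h1
  have hc0 : 0 < c := Nat.pos_of_ne_zero fun e => by simp [e] at hc
  exact Nat.eq_of_mul_eq_mul_left (show 0 < 2 * (2 * c) by omega) (by linarith)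

theorem normalizer_part {k' : ℕ} (hk' : k' ∣ 4 * 2 ^ m) (hkk : k = 2 * k') :
    Subgroup.normalizer (h.part k hk e : Set S) = h.part k' hk' e := by
  have hkz : (k : ℤ) = 2 * k' := by rw [hkk]; push_cast; rfl
  apply le_antisymm
  · intro g hg
    obtain ⟨j, rfl | rfl⟩ := h.exists_form g
    · have h1 := (Subgroup.mem_normalizer_iff.1 hg (x ^ e * y)).1 ((h.xy_mem_part hk).2 (by simp))
      rw [h.conj_xy_by_x, h.xy_mem_part hk, hkz,
        show e + j * (1 - (4 * (2 : ℤ) ^ m - 1)) - e = 2 * ((1 - 2 * 2 ^ m) * j) by ring,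
        mul_dvd_mul_iff_left (by norm_num)] at h1
      exact (h.x_mem_part hk').2
        ((((coprime m).of_isCoprime_of_dvd_right (h.dvd_four hk')).symm).dvd_of_dvd_mul_left h1)
    · have h1 := (Subgroup.mem_normalizer_iff.1 hg (x ^ e * y)).1 ((h.xy_mem_part hk).2 (by simp))
      rw [h.conj_xy_by_xy, h.xy_mem_part hk, hkz,
        show j + ((4 : ℤ) * 2 ^ m - 1) * e - (4 * 2 ^ m - 1) * j - e =
          2 * ((1 - 2 * 2 ^ m) * (j - e)) by ring,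
        mul_dvd_mul_iff_left (by norm_num)] at h1
      exact (h.xy_mem_part hk').2
        ((((coprime m).of_isCoprime_of_dvd_right (h.dvd_four hk')).symm).dvd_of_dvd_mul_left h1)
  · rw [Subgroup.le_normalizer_iff]
    intro g hg a ha
    obtain ⟨j, ⟨rfl, hj⟩ | ⟨rfl, hj⟩⟩ := hg <;> obtain ⟨i, ⟨rfl, hi⟩ | ⟨rfl, hi⟩⟩ := ha
    · rw [← zpow_neg, x_mul_x, x_mul_x, h.x_mem_part hk]
      simpa using hi
    · rw [h.conj_xy_by_x, h.xy_mem_part hk,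
        show i + j * (1 - (4 * (2 : ℤ) ^ m - 1)) - e = (i - e) + 2 * j * (1 - 2 * 2 ^ m) by ring, hkz]
      exact dvd_add (hkz ▸ hi) (dvd_mul_of_dvd_left (mul_dvd_mul_left 2 hj) _)
    · rw [h.conj_x_by_xy, h.x_mem_part hk]
      exact dvd_mul_of_dvd_right hi _
    · rw [h.conj_xy_by_xy, h.xy_mem_part hk,
        show j + ((4 : ℤ) * 2 ^ m - 1) * i - (4 * 2 ^ m - 1) * j - e =
          (4 * 2 ^ m - 1) * (i - e) + 2 * (j - e) * (1 - 2 * 2 ^ m) by ring, hkz]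
      exact dvd_add (dvd_mul_of_dvd_right (hkz ▸ hi) _) (dvd_mul_of_dvd_left (mul_dvd_mul_left 2 hj) _)

end QDGen

end Cfsg.Agent.TwoGroups
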