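/-
Wreathed 2-groups `C_{2^n} ≀ C_2`: normal form `x ^ i * y ^ j * z ^ e`, centre, the subgroups `base k`
(sum of exponents divisible by `k`) and `ext k e`.
-/
import Cfsg.Prelude.Def_CaseTheorems
import Cfsg.Agent.Lib.PGroup.CyclicMaximal

set_option autoImplicit false

namespace Cfsg.Agent.TwoGroups

universe u

variable {S : Type u} [Group S]

/-- Generators of a wreathed group of order `2 * N * N`, `N = 2 * h = 2 ^ n`. -/
structure WRGen (x y z : S) (n : ℕ) : Prop where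
  two_le : 2 ≤ n
  card : Nat.card S = 2 * (2 ^ n * 2 ^ n)
  ordX : orderOf x = 2 ^ n
  comm : Commute x y
  disj : Subgroup.zpowers x ⊓ Subgroup.zpowers y = ⊥
  ordZ : orderOf z = 2
  conj : z * x * z⁻¹ = y

theorem exists_wrGen (hS : Cfsg.IsWreathed S) : ∃ (x y z : S) (n : ℕ), WRGen x y z n := by
  obtain ⟨n, hn, hc, x, y, z, hx, hxy, hd, hz, hzxy⟩ := hS
  exact ⟨x, y, z, n, hn, by rw [hc]; ring, hx, hxy, hd, hz, hzxy⟩

theorem exists_wrGen_of_card (hS : Cfsg.IsWreathed S) {n : ℕ} (hn : Nat.card S = 2 ^ (2 * n + 1)) :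
    ∃ x y z : S, WRGen x y z n := by
  obtain ⟨x, y, z, n', h⟩ := exists_wrGen hS
  have := hn.symm.trans h.card
  rw [show 2 * (2 ^ n' * 2 ^ n') = 2 ^ (2 * n' + 1) by ring] at this
  obtain rfl : n = n' := by
    have := Nat.pow_right_injective le_rfl this
    omega
  exact ⟨x, y, z, h⟩

namespace WRGen

/-- The element `x ^ i * y ^ j`. -/
def pr (x y : S) (i j : ℤ) : S := x ^ i * y ^ j

variable {x y z : S} {n : ℕ} (h : WRGen x y z n)
include h

theorem ordY : orderOf y = 2 ^ n := by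
  rw [← h.conj, ← MulAut.conj_apply, MulEquiv.orderOf_eq, h.ordX]

theorem z_mul_self : z * z = 1 := by
  rw [← pow_two, ← h.ordZ, pow_orderOf_eq_one]

theorem z_inv : z⁻¹ = z := inv_eq_of_mul_eq_one_right h.z_mul_self

theorem zpow_x_eq_one_iff (i : ℤ) : x ^ i = 1 ↔ (2 : ℤ) ^ n ∣ i := by
  rw [← orderOf_dvd_iff_zpow_eq_one, h.ordX]
  push_cast
  rfl

theorem pr_eq_one_iff (i j : ℤ) : pr x y i j = 1 ↔ (2 : ℤ) ^ n ∣ i ∧ (2 : ℤ) ^ n ∣ j := by
  constructor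
  · intro e
    have h1 : x ^ i ∈ Subgroup.zpowers x ⊓ Subgroup.zpowers y :=
      ⟨⟨i, rfl⟩, ⟨-j, by simp only; rw [zpow_neg, eq_inv_of_mul_eq_one_left e]⟩⟩
    rw [h.disj, Subgroup.mem_bot] at h1
    rw [pr, h1, one_mul, ← orderOf_dvd_iff_zpow_eq_one, h.ordY] at e
    exact ⟨(h.zpow_x_eq_one_iff i).1 h1, by exact_mod_cast e⟩
  · rintro ⟨hi, hj⟩
    rw [pr, (h.zpow_x_eq_one_iff i).2 hi, one_mul, ← orderOf_dvd_iff_zpow_eq_one, h.ordY]
    exact_mod_cast hj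

theorem pr_mul (i j k l : ℤ) : pr x y i j * pr x y k l = pr x y (i + k) (j + l) := by
  simp only [pr, zpow_add]
  rw [mul_assoc, ← mul_assoc (y ^ j), ((h.comm.zpow_left k).zpow_right j).symm.eq]
  simp [mul_assoc]

theorem pr_inv (i j : ℤ) : (pr x y i j)⁻¹ = pr x y (-i) (-j) :=
  inv_eq_of_mul_eq_one_right (by rw [h.pr_mul]; simp [pr])

theorem pr_eq_iff (i j k l : ℤ) :
    pr x y i j = pr x y k l ↔ (2 : ℤ) ^ n ∣ i - k ∧ (2 : ℤ) ^ n ∣ j - l := by
  rw [← mul_inv_eq_one, h.pr_inv, h.pr_mul, h.pr_eq_one_iff]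
  rfl

theorem z_mul_pr (i j : ℤ) : z * pr x y i j = pr x y j i * z := by
  have hy : z * y * z⁻¹ = x := by
    rw [← h.conj]
    simp only [h.z_inv, mul_assoc]
    rw [h.z_mul_self, mul_one, ← mul_assoc, h.z_mul_self, one_mul]
  rw [← mul_inv_eq_iff_eq_mul, pr, ← conj_mul, ← conj_zpow, ← conj_zpow, h.conj, hy, pr,
    ((h.comm.zpow_left j).zpow_right i).symm.eq]

theorem prz_mul_pr (i j k l : ℤ) : pr x y i j * z * pr x y k l = pr x y (i + l) (j + k) * z := by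
  rw [mul_assoc, h.z_mul_pr, ← mul_assoc, h.pr_mul]

theorem pr_mul_prz (i j k l : ℤ) : pr x y i j * (pr x y k l * z) = pr x y (i + k) (j + l) * z := by
  rw [← mul_assoc, h.pr_mul]

theorem prz_mul_prz (i j k l : ℤ) : pr x y i j * z * (pr x y k l * z) = pr x y (i + l) (j + k) := by
  rw [← mul_assoc, h.prz_mul_pr, mul_assoc, h.z_mul_self, mul_one]

theorem prz_inv (i j : ℤ) : (pr x y i j * z)⁻¹ = pr x y (-j) (-i) * z :=
  inv_eq_of_mul_eq_one_right (by rw [h.prz_mul_prz]; simp [pr])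

theorem not_pr_z (i j : ℤ) : pr x y i j ≠ z := by
  intro e
  have h1 : Commute z x := e ▸ ((Commute.refl x).zpow_left i).mul_left (h.comm.symm.zpow_left j)
  have h2 : y = x := by rw [← h.conj, h1.eq, mul_inv_cancel_right]
  have h3 := h.disj
  rw [h2, inf_idem, Subgroup.zpowers_eq_bot] at h3
  have h4 := h.ordX
  rw [h3, orderOf_one] at h4
  have := Nat.one_lt_two_pow (show n ≠ 0 by have := h.two_le; omega)
  omega

theorem prz_ne (i j k l : ℤ) : pr x y i j * z ≠ pr x y k l := fun e =>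
  h.not_pr_z (-i + k) (-j + l) (by rw [← h.pr_mul, ← e, ← h.pr_inv, inv_mul_cancel_left])

theorem prz_eq_iff (i j k l : ℤ) :
    pr x y i j * z = pr x y k l * z ↔ (2 : ℤ) ^ n ∣ i - k ∧ (2 : ℤ) ^ n ∣ j - l := by
  rw [mul_left_inj, h.pr_eq_iff]

theorem conj_pr_by_pr (i j k l : ℤ) : pr x y i j * pr x y k l * (pr x y i j)⁻¹ = pr x y k l := by
  rw [h.pr_inv, h.pr_mul, h.pr_mul]
  ring_nf

theorem conj_pr_by_prz (i j k l : ℤ) :
    pr x y i j * z * pr x y k l * (pr x y i j * z)⁻¹ = pr x y l k := by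
  rw [h.prz_mul_pr, h.prz_inv, h.prz_mul_prz]
  ring_nf

theorem conj_prz_by_pr (i j k l : ℤ) :
    pr x y i j * (pr x y k l * z) * (pr x y i j)⁻¹ = pr x y (i + k - j) (j + l - i) * z := by
  rw [h.pr_mul_prz, h.pr_inv, h.prz_mul_pr]
  ring_nf

theorem conj_prz_by_prz (i j k l : ℤ) :
    pr x y i j * z * (pr x y k l * z) * (pr x y i j * z)⁻¹ = pr x y (i + l - j) (j + k - i) * z := by
  rw [h.prz_mul_prz, h.prz_inv, h.pr_mul_prz]
  ring_nf

/-! ### Normal form -/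

theorem exists_form [Finite S] (g : S) : ∃ i j : ℤ, g = pr x y i j ∨ g = pr x y i j * z := by
  haveI := Fintype.ofFinite S
  let N := 2 ^ n
  let f : Fin 2 × Fin N × Fin N → S := fun p =>
    if p.1 = 0 then pr x y p.2.1.val p.2.2.val else pr x y p.2.1.val p.2.2.val * z
  have hf : Function.Injective f := by
    have key : ∀ a b c d : Fin N, (2 : ℤ) ^ n ∣ (a.val : ℤ) - c.val ∧ (2 : ℤ) ^ n ∣ (b.val : ℤ) - d.val →
        a = c ∧ b = d := by
      have one : ∀ a c : Fin N, (2 : ℤ) ^ n ∣ (a.val : ℤ) - c.val → a = c := by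
        intro a c hd
        have ha : (a.val : ℤ) < 2 ^ n := by exact_mod_cast a.2
        have hc : (c.val : ℤ) < 2 ^ n := by exact_mod_cast c.2
        have h0 := Int.eq_zero_of_abs_lt_dvd hd (abs_lt.2 ⟨by omega, by omega⟩)
        exact Fin.ext (by omega)
      exact fun a b c d ⟨h1, h2⟩ => ⟨one a c h1, one b d h2⟩
    rintro ⟨e, a, b⟩ ⟨e', c, d⟩ heq
    fin_cases e <;> fin_cases e' <;> simp [f] at heq
    · obtain ⟨rfl, rfl⟩ := key a b c d ((h.pr_eq_iff _ _ _ _).1 heq); rfl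
    · exact absurd heq.symm (h.prz_ne _ _ _ _)
    · exact absurd heq (h.prz_ne _ _ _ _)
    · obtain ⟨rfl, rfl⟩ := key a b c d ((h.pr_eq_iff _ _ _ _).1 heq); rfl
  have hcard : Fintype.card (Fin 2 × Fin N × Fin N) = Fintype.card S := by
    rw [← Nat.card_eq_fintype_card (α := S), h.card]
    simp [N]
  obtain ⟨⟨e, a, b⟩, hp⟩ := ((Fintype.bijective_iff_injective_and_card f).2 ⟨hf, hcard⟩).2 g
  refine ⟨a.val, b.val, ?_⟩
  fin_cases e <;> simp [f] at hp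
  · exact Or.inl hp.symm
  · exact Or.inr hp.symm

theorem pr_sq_eq_one_iff (i j : ℤ) :
    pr x y i j ^ 2 = 1 ↔ (2 : ℤ) ^ (n - 1) ∣ i ∧ (2 : ℤ) ^ (n - 1) ∣ j := by
  obtain ⟨m, rfl⟩ : ∃ m, n = m + 1 := ⟨n - 1, by have := h.two_le; omega⟩
  rw [pow_two, h.pr_mul, h.pr_eq_one_iff, pow_succ', Nat.add_sub_cancel, ← two_mul, ← two_mul,
    mul_dvd_mul_iff_left (by norm_num), mul_dvd_mul_iff_left (by norm_num)]

theorem prz_sq (i j : ℤ) : (pr x y i j * z) ^ 2 = pr x y (i + j) (i + j) := by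
  rw [pow_two, h.prz_mul_prz, add_comm j i]

theorem prz_sq_eq_one_iff (i j : ℤ) : (pr x y i j * z) ^ 2 = 1 ↔ (2 : ℤ) ^ n ∣ i + j := by
  rw [h.prz_sq, h.pr_eq_one_iff, and_self]

theorem pr_comm (i j k l : ℤ) : pr x y i j * pr x y k l = pr x y k l * pr x y i j := by
  rw [h.pr_mul, h.pr_mul]
  ring_nf

theorem commute_prz_iff (i j k l : ℤ) :
    pr x y k l * (pr x y i j * z) = pr x y i j * z * pr x y k l ↔ (2 : ℤ) ^ n ∣ k - l := by
  rw [h.pr_mul_prz, h.prz_mul_pr, h.prz_eq_iff]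
  constructor
  · intro h1; convert h1.1 using 1; ring
  · intro h1
    refine ⟨by convert h1 using 1; ring, ?_⟩
    rw [show l + j - (j + k) = -(k - l) by ring]
    exact h1.neg_right

theorem pr_mem_center_iff [Finite S] (i j : ℤ) :
    pr x y i j ∈ Subgroup.center S ↔ (2 : ℤ) ^ n ∣ i - j := by
  rw [Subgroup.mem_center_iff]
  constructor
  · intro hc
    exact (h.commute_prz_iff 0 0 i j).1 (hc _).symm
  · intro hd g
    obtain ⟨k, l, rfl | rfl⟩ := h.exists_form g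
    · exact h.pr_comm _ _ _ _
    · exact ((h.commute_prz_iff k l i j).2 hd).symm

theorem prz_not_mem_center (i j : ℤ) : pr x y i j * z ∉ Subgroup.center S := by
  intro hc
  have h1 : (2 : ℤ) ^ n ∣ 1 - 0 := (h.commute_prz_iff i j 1 0).1 (Subgroup.mem_center_iff.1 hc _)
  have h2 := Int.le_of_dvd (by norm_num) h1
  have : (4 : ℤ) ≤ 2 ^ n := by
    calc (4 : ℤ) = 2 ^ 2 := by norm_num
      _ ≤ _ := pow_le_pow_right₀ (by norm_num) h.two_le
  omega

theorem center_eq [Finite S] : Subgroup.center S = Subgroup.zpowers (pr x y 1 1) := by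
  have hpow : ∀ c : ℤ, pr x y 1 1 ^ c = pr x y c c := by
    intro c
    simp only [pr, zpow_one]
    exact h.comm.mul_zpow c
  ext g
  obtain ⟨i, j, rfl | rfl⟩ := h.exists_form g
  · rw [h.pr_mem_center_iff]
    constructor
    · intro hd
      exact ⟨i, by simp only; rw [hpow, h.pr_eq_iff]; exact ⟨by simp, hd⟩⟩
    · rintro ⟨c, hc⟩
      simp only at hc
      rw [hpow, h.pr_eq_iff] at hc
      rw [show i - j = (c - j) - (c - i) by ring]
      exact dvd_sub hc.2 hc.1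
  · refine iff_of_false (h.prz_not_mem_center i j) ?_
    rintro ⟨c, hc⟩
    simp only at hc
    rw [hpow] at hc
    exact h.prz_ne _ _ _ _ hc.symm

theorem isPGroup [Finite S] : IsPGroup 2 S :=
  IsPGroup.of_card (n := 2 * n + 1) (by rw [h.card]; ring)

theorem int_dvd {k : ℕ} (hk : k ∣ 2 ^ n) : (k : ℤ) ∣ (2 : ℤ) ^ n := by exact_mod_cast hk

end WRGen

/-- The subgroup of the `x ^ i * y ^ j` with `k ∣ i + j`. -/
def WRGen.base [Finite S] {x y z : S} {n : ℕ} (h : WRGen x y z n) (k : ℕ) : Subgroup S where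
  carrier := {g | ∃ i j : ℤ, g = WRGen.pr x y i j ∧ (k : ℤ) ∣ i + j}
  one_mem' := ⟨0, 0, by simp [WRGen.pr], by simp⟩
  mul_mem' {a b} ha hb := by
    obtain ⟨i, j, rfl, hi⟩ := ha
    obtain ⟨i', j', rfl, hi'⟩ := hb
    refine ⟨_, _, h.pr_mul i j i' j', ?_⟩
    rw [show i + i' + (j + j') = i + j + (i' + j') by ring]
    exact dvd_add hi hi'
  inv_mem' {a} ha := by
    obtain ⟨i, j, rfl, hi⟩ := ha
    exact ⟨_, _, h.pr_inv i j, by rw [show -i + -j = -(i + j) by ring]; exact hi.neg_right⟩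

/-- The subgroup `base k ∪ {x ^ i * y ^ j * z | k ∣ i + j - e}`. -/
def WRGen.ext [Finite S] {x y z : S} {n : ℕ} (h : WRGen x y z n) (k : ℕ) (e : ℤ)
    (he : (k : ℤ) ∣ 2 * e) : Subgroup S where
  carrier := {g | ∃ i j : ℤ, (g = WRGen.pr x y i j ∧ (k : ℤ) ∣ i + j) ∨
    (g = WRGen.pr x y i j * z ∧ (k : ℤ) ∣ i + j - e)}
  one_mem' := ⟨0, 0, Or.inl ⟨by simp [WRGen.pr], by simp⟩⟩
  mul_mem' {a b} ha hb := by
    obtain ⟨i, j, ⟨rfl, hi⟩ | ⟨rfl, hi⟩⟩ := ha <;> obtain ⟨i', j', ⟨rfl, hi'⟩ | ⟨rfl, hi'⟩⟩ := hb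
    · refine ⟨_, _, Or.inl ⟨h.pr_mul i j i' j', ?_⟩⟩
      rw [show i + i' + (j + j') = i + j + (i' + j') by ring]
      exact dvd_add hi hi'
    · refine ⟨_, _, Or.inr ⟨h.pr_mul_prz i j i' j', ?_⟩⟩
      rw [show i + i' + (j + j') - e = i + j + (i' + j' - e) by ring]
      exact dvd_add hi hi'
    · refine ⟨_, _, Or.inr ⟨h.prz_mul_pr i j i' j', ?_⟩⟩
      rw [show i + j' + (j + i') - e = i + j - e + (i' + j') by ring]
      exact dvd_add hi hi'
    · refine ⟨_, _, Or.inl ⟨h.prz_mul_prz i j i' j', ?_⟩⟩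
      rw [show i + j' + (j + i') = i + j - e + (i' + j' - e) + 2 * e by ring]
      exact dvd_add (dvd_add hi hi') he
  inv_mem' {a} ha := by
    obtain ⟨i, j, ⟨rfl, hi⟩ | ⟨rfl, hi⟩⟩ := ha
    · exact ⟨_, _, Or.inl ⟨h.pr_inv i j, by rw [show -i + -j = -(i + j) by ring]; exact hi.neg_right⟩⟩
    · refine ⟨_, _, Or.inr ⟨h.prz_inv i j, ?_⟩⟩
      rw [show -j + -i - e = -(i + j - e) - 2 * e by ring]
      exact dvd_sub hi.neg_right he

namespace WRGen

variable [Finite S] {x y z : S} {n : ℕ} (h : WRGen x y z n) {k : ℕ}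
include h

theorem pr_mem_base (hk : k ∣ 2 ^ n) {i j : ℤ} : pr x y i j ∈ h.base k ↔ (k : ℤ) ∣ i + j := by
  refine ⟨?_, fun hd => ⟨i, j, rfl, hd⟩⟩
  rintro ⟨a, b, e, hd⟩
  obtain ⟨h1, h2⟩ := (h.pr_eq_iff _ _ _ _).1 e
  rw [show i + j = (i - a) + (j - b) + (a + b) by ring]
  exact dvd_add (dvd_add ((h.int_dvd hk).trans h1) ((h.int_dvd hk).trans h2)) hd

theorem prz_not_mem_base {i j : ℤ} : pr x y i j * z ∉ h.base k := by
  rintro ⟨a, b, e, -⟩
  exact h.prz_ne _ _ _ _ e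

theorem pr_mem_ext (hk : k ∣ 2 ^ n) {e : ℤ} (he : (k : ℤ) ∣ 2 * e) {i j : ℤ} :
    pr x y i j ∈ h.ext k e he ↔ (k : ℤ) ∣ i + j := by
  refine ⟨?_, fun hd => ⟨i, j, Or.inl ⟨rfl, hd⟩⟩⟩
  rintro ⟨a, b, ⟨e', hd⟩ | ⟨e', hd⟩⟩
  · exact (h.pr_mem_base hk).1 ⟨a, b, e', hd⟩
  · exact absurd e'.symm (h.prz_ne _ _ _ _)

theorem prz_mem_ext (hk : k ∣ 2 ^ n) {e : ℤ} (he : (k : ℤ) ∣ 2 * e) {i j : ℤ} :
    pr x y i j * z ∈ h.ext k e he ↔ (k : ℤ) ∣ i + j - e := by
  refine ⟨?_, fun hd => ⟨i, j, Or.inr ⟨rfl, hd⟩⟩⟩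
  rintro ⟨a, b, ⟨e', hd⟩ | ⟨e', hd⟩⟩
  · exact absurd e' (h.prz_ne _ _ _ _)
  · obtain ⟨h1, h2⟩ := (h.prz_eq_iff _ _ _ _).1 e'
    rw [show i + j - e = (i - a) + (j - b) + (a + b - e) by ring]
    exact dvd_add (dvd_add ((h.int_dvd hk).trans h1) ((h.int_dvd hk).trans h2)) hd

theorem card_base (hk : k ∣ 2 ^ n) : Nat.card (h.base k) * k = 2 ^ n * 2 ^ n := by
  have hk0 : k ≠ 0 := fun e => by simp [e] at hk
  obtain ⟨c, hc⟩ := hk
  rw [hc]
  have hcz : (2 : ℤ) ^ n = k * c := by exact_mod_cast hc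
  let f : Fin (2 ^ n) × Fin c → h.base k := fun p =>
    ⟨pr x y p.1.val ((k : ℤ) * p.2.val - p.1.val), _, _, rfl, by simp⟩
  have hf : Function.Bijective f := by
    constructor
    · rintro ⟨a, b⟩ ⟨a', b'⟩ e
      obtain ⟨h1, h2⟩ := (h.pr_eq_iff _ _ _ _).1 (congrArg Subtype.val e)
      replace h1 : (2 : ℤ) ^ n ∣ (a.val : ℤ) - a'.val := h1
      replace h2 : (2 : ℤ) ^ n ∣ ((k : ℤ) * b.val - a.val) - (k * b'.val - a'.val) := h2
      have ha : (a.val : ℤ) < 2 ^ n := by exact_mod_cast a.2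
      have ha' : (a'.val : ℤ) < 2 ^ n := by exact_mod_cast a'.2
      have h0 := Int.eq_zero_of_abs_lt_dvd h1 (abs_lt.2 ⟨by omega, by omega⟩)
      have haa : a = a' := Fin.ext (by omega)
      subst haa
      rw [hcz, show (k : ℤ) * b.val - a.val - (k * b'.val - a.val) = k * (b.val - b'.val) by ring,
        mul_dvd_mul_iff_left (by exact_mod_cast hk0)] at h2
      replace h2 : (c : ℤ) ∣ (b.val : ℤ) - b'.val := h2
      have hb : (b.val : ℤ) < c := by exact_mod_cast b.2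
      have hb' : (b'.val : ℤ) < c := by exact_mod_cast b'.2
      have h3 := Int.eq_zero_of_abs_lt_dvd h2 (abs_lt.2 ⟨by omega, by omega⟩)
      exact Prod.ext rfl (Fin.ext (show b.val = b'.val by omega))
    · rintro ⟨g, i, j, rfl, t, ht⟩
      have hN : (0 : ℤ) < 2 ^ n := by positivity
      have hc0 : (0 : ℤ) < c := by
        by_contra hle
        have : (k : ℤ) * c ≤ 0 := mul_nonpos_of_nonneg_of_nonpos (by positivity) (by omega)
        omega
      have h1 := Int.emod_nonneg i hN.ne'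
      have h2 := Int.emod_lt_of_pos i hN
      have h3 := Int.emod_nonneg t hc0.ne'
      have h4 := Int.emod_lt_of_pos t hc0
      refine ⟨(⟨(i % 2 ^ n).toNat, ?_⟩, ⟨(t % c).toNat, by omega⟩), Subtype.ext ?_⟩
      · zify
        rw [Int.toNat_of_nonneg h1]
        exact_mod_cast h2
      · show pr x y _ _ = _
        rw [h.pr_eq_iff]
        simp only [Int.toNat_of_nonneg h1, Int.toNat_of_nonneg h3]
        refine ⟨⟨-(i / 2 ^ n), by rw [Int.emod_def]; ring⟩, ⟨-(t / c) + i / 2 ^ n, ?_⟩⟩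
        rw [Int.emod_def, Int.emod_def]
        linear_combination -ht + (t / (c : ℤ)) * hcz
  rw [← Nat.card_congr (Equiv.ofBijective f hf), Nat.card_prod, Nat.card_fin, Nat.card_fin, hc]
  ring

theorem relIndex_base_ext (hk : k ∣ 2 ^ n) {e : ℤ} (he : (k : ℤ) ∣ 2 * e) :
    (h.base k).relIndex (h.ext k e he) = 2 := by
  have hw : pr x y e 0 * z ∈ h.ext k e he := (h.prz_mem_ext hk he).2 (by simp)
  rw [Subgroup.relIndex, Subgroup.index_eq_two_iff]
  refine ⟨⟨_, hw⟩, fun b => ?_⟩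
  obtain ⟨b, i, j, ⟨rfl, hi⟩ | ⟨rfl, hi⟩⟩ := b
  · refine Or.inr ⟨?_, ?_⟩
    · rw [Subgroup.mem_subgroupOf, h.pr_mem_base hk]; exact hi
    · rw [Subgroup.mem_subgroupOf, Subgroup.coe_mul, h.pr_mul_prz]; exact h.prz_not_mem_base
  · refine Or.inl ⟨?_, ?_⟩
    · rw [Subgroup.mem_subgroupOf, Subgroup.coe_mul, h.prz_mul_prz, h.pr_mem_base hk,
        show i + 0 + (j + e) = i + j - e + 2 * e by ring]
      exact dvd_add hi he
    · rw [Subgroup.mem_subgroupOf]; exact h.prz_not_mem_base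

theorem card_ext (hk : k ∣ 2 ^ n) {e : ℤ} (he : (k : ℤ) ∣ 2 * e) :
    Nat.card (h.ext k e he) * k = 2 * (2 ^ n * 2 ^ n) := by
  have hle : h.base k ≤ h.ext k e he := by
    rintro g ⟨i, j, rfl, hd⟩
    exact ⟨i, j, Or.inl ⟨rfl, hd⟩⟩
  rw [← Subgroup.relIndex_bot_left, ← Subgroup.relIndex_mul_relIndex ⊥ _ _ bot_le hle,
    h.relIndex_base_ext hk he, Subgroup.relIndex_bot_left, ← h.card_base hk]
  ring

end WRGen

end Cfsg.Agent.TwoGroups
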