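/-
Four-subgroups, quaternion subgroups of order 8 and maximal subgroups of a quasi-dihedral group.
-/
import Cfsg.Agent.Lib.TwoGroups.QuasiDihedral

set_option autoImplicit false

namespace Cfsg.Agent.TwoGroups.QDGen

open scoped commutatorElement

universe u

variable {S : Type u} [Group S] [Finite S] {x y : S} {m : ℕ} (h : QDGen x y m)
include h

omit h in
theorem dvd_four_self (m : ℕ) : 4 * 2 ^ m ∣ 4 * 2 ^ m := dvd_rfl

omit h in
theorem dvd_two_self (m : ℕ) : 2 * 2 ^ m ∣ 4 * 2 ^ m := ⟨2, by ring⟩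

omit h in
theorem dvd_two (m : ℕ) : 2 ∣ 4 * 2 ^ m := ⟨2 * 2 ^ m, by ring⟩

omit h in
theorem dvd_self_pow (m : ℕ) : 2 ^ m ∣ 4 * 2 ^ m := dvd_mul_left _ _

/-- A set of elements all inside `part k e`, by the coset of one element outside `zpowers x`. -/
theorem le_part {k : ℕ} (hk : k ∣ 4 * 2 ^ m) {e : ℤ} (T : Subgroup S) (he : x ^ e * y ∈ T)
    (hx : ∀ i : ℤ, x ^ i ∈ T → (k : ℤ) ∣ i) : T ≤ h.part k hk e := by
  intro g hg
  obtain ⟨i, rfl | rfl⟩ := h.exists_form g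
  · exact (h.x_mem_part hk).2 (hx i hg)
  · refine (h.xy_mem_part hk).2 ?_
    have h1 := hx _ (h.xy_mul_xy i e ▸ T.mul_mem hg he)
    rw [show i - e = (i + (4 * 2 ^ m - 1) * e) - 4 * 2 ^ m * e by ring]
    exact dvd_sub h1 (dvd_mul_of_dvd_left (h.dvd_four hk) _)

theorem exists_xy_mem {k : ℕ} (hk : k ∣ 4 * 2 ^ m) (T : Subgroup S)
    (hx : ∀ i : ℤ, x ^ i ∈ T → (k : ℤ) ∣ i) (hc : 8 * 2 ^ m / k < Nat.card T) :
    ∃ e : ℤ, x ^ e * y ∈ T := by
  by_contra hall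
  push Not at hall
  have hle : T ≤ Subgroup.zpowers (x ^ k) := by
    intro g hg
    obtain ⟨i, rfl | rfl⟩ := h.exists_form g
    · obtain ⟨c, rfl⟩ := hx i hg
      exact ⟨c, by simp only; rw [← zpow_natCast, ← zpow_mul]⟩
    · exact absurd hg (hall i)
  have := Subgroup.card_le_of_le hle
  rw [Nat.card_zpowers, orderOf_pow_of_dvd (fun e => by simp [e] at hk)
    (by rw [h.ordX]; exact hk.trans ⟨2, by ring⟩), h.ordX] at this
  omega

theorem exists_part_of_kleinFour (T : Subgroup S) [IsKleinFour T] :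
    ∃ e : ℤ, 2 ∣ e ∧ T = h.part (4 * 2 ^ m) (dvd_four_self m) e := by
  have hc : Nat.card T = 4 := IsKleinFour.card_four
  have hsq : ∀ g ∈ T, g ^ 2 = 1 := by
    intro g hg
    have := Monoid.pow_exponent_eq_one (⟨g, hg⟩ : T)
    rw [IsKleinFour.exponent_two] at this
    exact congrArg Subtype.val this
  have hx : ∀ i : ℤ, x ^ i ∈ T → ((4 * 2 ^ m : ℕ) : ℤ) ∣ i := by
    intro i hi
    push_cast
    exact (h.x_sq_eq_one_iff i).1 (hsq _ hi)
  have hd : 8 * 2 ^ m / (4 * 2 ^ m) = 2 := by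
    rw [show 8 * 2 ^ m = (4 * 2 ^ m) * 2 by ring, Nat.mul_div_cancel_left _ (by positivity)]
  obtain ⟨e, he⟩ := h.exists_xy_mem (dvd_four_self m) T hx (by omega)
  refine ⟨e, (h.xy_sq_eq_one_iff e).1 (hsq _ he), ?_⟩
  refine Subgroup.eq_of_le_of_card_ge (h.le_part _ T he hx) ?_
  rw [h.card_part, hd, hc]

omit h in
theorem quaternion_unique : ∀ a b : QuaternionGroup 2, a ^ 2 = 1 → b ^ 2 = 1 → a ≠ 1 → b ≠ 1 → a = b := by
  decide

omit h in
theorem quaternion_pow_four : ∀ a : QuaternionGroup 2, a ^ 4 = 1 := by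
  decide

theorem exists_part_of_quaternion (Q : Subgroup S) (eQ : Q ≃* QuaternionGroup 2) :
    ∃ e : ℤ, ¬ 2 ∣ e ∧ Q = h.part (2 * 2 ^ m) (dvd_two_self m) e := by
  have hc : Nat.card Q = 8 := by
    rw [Nat.card_congr eQ.toEquiv, Nat.card_eq_fintype_card, QuaternionGroup.card]
  have hp4 : ∀ g ∈ Q, g ^ 4 = 1 := by
    intro g hg
    have : (⟨g, hg⟩ : Q) ^ 4 = 1 := eQ.injective (by rw [map_pow, quaternion_pow_four, map_one])
    exact congrArg Subtype.val this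
  have huniq : ∀ a ∈ Q, ∀ b ∈ Q, a ^ 2 = 1 → b ^ 2 = 1 → a ≠ 1 → b ≠ 1 → a = b := by
    intro a ha b hb ha2 hb2 ha1 hb1
    have key := quaternion_unique (eQ ⟨a, ha⟩) (eQ ⟨b, hb⟩)
      (by rw [← map_pow, show (⟨a, ha⟩ : Q) ^ 2 = 1 from Subtype.ext ha2, map_one])
      (by rw [← map_pow, show (⟨b, hb⟩ : Q) ^ 2 = 1 from Subtype.ext hb2, map_one])
      (fun e => ha1 (congrArg Subtype.val ((map_eq_one_iff eQ eQ.injective).1 e)))
      (fun e => hb1 (congrArg Subtype.val ((map_eq_one_iff eQ eQ.injective).1 e)))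
    exact congrArg Subtype.val (eQ.injective key)
  have hx : ∀ i : ℤ, x ^ i ∈ Q → ((2 * 2 ^ m : ℕ) : ℤ) ∣ i := by
    intro i hi
    push_cast
    exact (h.x_pow_four_eq_one_iff i).1 (hp4 _ hi)
  have hd : 8 * 2 ^ m / (2 * 2 ^ m) = 4 := by
    rw [show 8 * 2 ^ m = (2 * 2 ^ m) * 4 by ring, Nat.mul_div_cancel_left _ (by positivity)]
  obtain ⟨e, he⟩ := h.exists_xy_mem (dvd_two_self m) Q hx (by omega)
  have hQ : Q = h.part (2 * 2 ^ m) (dvd_two_self m) e := by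
    refine Subgroup.eq_of_le_of_card_ge (h.le_part _ Q he hx) ?_
    rw [h.card_part, hd, hc]
  refine ⟨e, fun h2 => ?_, hQ⟩
  have hz : x ^ ((4 : ℤ) * 2 ^ m) ∈ Q := by
    rw [hQ, h.x_mem_part]
    push_cast
    exact ⟨2, by ring⟩
  have := huniq _ he _ hz ((h.xy_sq_eq_one_iff e).2 h2) ((h.x_sq_eq_one_iff _).2 dvd_rfl)
    (fun h1 => h.xy_ne e 0 (by rw [h1, zpow_zero]))
    (fun h1 => by
      rw [h.zpow_eq_one_iff] at h1
      have := Int.le_of_dvd (by positivity) h1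
      have : (0 : ℤ) < 2 ^ m := by positivity
      omega)
  exact h.xy_ne _ _ this

/-- Two such subgroups with parameters of the same parity are conjugate. -/
theorem exists_map_part {k : ℕ} (hk : k ∣ 4 * 2 ^ m) {e e' : ℤ} (he : 2 ∣ e' - e) :
    ∃ s : S, (h.part k hk e).map (MulAut.conj s).toMonoidHom = h.part k hk e' := by
  obtain ⟨j, hj⟩ := h.exists_conj he
  rw [h.conj_xy_by_x, h.xy_eq_iff] at hj
  exact ⟨x ^ j, by rw [h.map_part hk]; exact h.part_congr hk ((h.dvd_eight hk).trans hj)⟩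

theorem index_part_two (e : ℤ) : (h.part 2 (dvd_two m) e).index = 2 := by
  have h1 := (h.part 2 (dvd_two m) e).card_mul_index
  rw [h.card_part, h.card, show 8 * 2 ^ m / 2 = 4 * 2 ^ m by omega] at h1
  exact Nat.eq_of_mul_eq_mul_left (show 0 < 2 * (4 * 2 ^ m) by positivity) (by linarith)

omit h in
theorem isCoatom_of_index_two (M : Subgroup S) (hM : M.index = 2) : IsCoatom M := by
  haveI : Fact (Nat.Prime 2) := ⟨Nat.prime_two⟩
  exact PGroup.isCoatom_of_index_eq hM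

theorem zpowers_sq_eq : ∀ (g : S), g ∈ Subgroup.zpowers (x ^ (2 : ℕ)) ↔ ∃ i : ℤ, g = x ^ i ∧ 2 ∣ i := by
  intro g
  constructor
  · rintro ⟨c, rfl⟩
    exact ⟨2 * c, by simp only; rw [← zpow_natCast, ← zpow_mul]; norm_num, dvd_mul_right _ _⟩
  · rintro ⟨i, rfl, c, rfl⟩
    exact ⟨c, by simp only; rw [← zpow_natCast, ← zpow_mul]; norm_num⟩

theorem commutator_eq : commutator S = Subgroup.zpowers (x ^ (2 : ℕ)) := by
  apply le_antisymm
  · rw [commutator_def, Subgroup.commutator_le]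
    intro a _ b _
    rw [h.zpowers_sq_eq, commutatorElement_def]
    obtain ⟨i, rfl | rfl⟩ := h.exists_form a <;> obtain ⟨j, rfl | rfl⟩ := h.exists_form b
    · exact ⟨0, by rw [← zpow_neg, ← zpow_neg, x_mul_x, x_mul_x, x_mul_x]; ring_nf, dvd_zero _⟩
    · exact ⟨i + j + (4 * 2 ^ m - 1) * (-i) - j,
        by rw [x_mul_xy, ← zpow_neg, h.xy_mul_x, mul_inv_rev, h.y_inv, mul_assoc, ← mul_assoc y,
             h.y_mul_self, one_mul, ← zpow_neg, x_mul_x]; ring_nf,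
        ⟨(1 - 2 * 2 ^ m) * i, by ring⟩⟩
    · exact ⟨(4 * 2 ^ m - 1) * j - j,
        by rw [h.conj_x_by_xy, ← zpow_neg, x_mul_x]; ring_nf,
        ⟨(2 * 2 ^ m - 1) * j, by ring⟩⟩
    · refine ⟨i + (4 * 2 ^ m - 1) * j - (4 * 2 ^ m - 1) * i +
        (4 * 2 ^ m - 1) * (j * (1 - 4 * 2 ^ m)), ?_, ?_⟩
      · have hinv : (x ^ j * y)⁻¹ = x ^ (j * (1 - 4 * (2 : ℤ) ^ m)) * y := by
          apply inv_eq_of_mul_eq_one_right
          rw [h.xy_mul_xy, h.zpow_eq_one_iff]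
          exact ⟨j * (1 - 2 * 2 ^ m), by ring⟩
        rw [h.conj_xy_by_xy, hinv, h.xy_mul_xy]
      · exact ⟨(1 - 2 * 2 ^ m) * (i + (4 * 2 ^ m - 1) * j), by ring⟩
  · rw [Subgroup.zpowers_le]
    have hmem : ⁅x ^ (1 + 2 * 2 ^ m : ℤ), y⁆ ∈ commutator S :=
      Subgroup.commutator_mem_commutator (Subgroup.mem_top _) (Subgroup.mem_top _)
    have he : ⁅x ^ (1 + 2 * 2 ^ m : ℤ), y⁆ = x ^ (2 : ℕ) := by
      rw [commutatorElement_def, h.y_inv, ← zpow_neg, mul_assoc _ y, h.y_mul_zpow, ← mul_assoc, x_mul_x,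
        mul_assoc, h.y_mul_self, mul_one, ← zpow_natCast, h.zpow_eq_iff]
      exact ⟨-(2 ^ m), by push_cast; ring⟩
    rwa [he] at hmem

theorem frattini_eq : frattini S = Subgroup.zpowers (x ^ (2 : ℕ)) := by
  haveI : Fact (Nat.Prime 2) := ⟨Nat.prime_two⟩
  refine le_antisymm ?_ (h.commutator_eq ▸ PGroup.commutator_le_frattini h.isPGroup)
  intro g hg
  have h1 : g ∈ Subgroup.zpowers x :=
    frattini_le_coatom (isCoatom_of_index_two _ h.index_zpowers) hg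
  have h2 : g ∈ h.part 2 (dvd_two m) 0 :=
    frattini_le_coatom (isCoatom_of_index_two _ (h.index_part_two 0)) hg
  obtain ⟨i, rfl⟩ := h1
  exact (h.zpowers_sq_eq _).2 ⟨i, rfl, by exact_mod_cast (h.x_mem_part _).1 h2⟩

theorem eq_of_isCoatom (M : Subgroup S) (hM : IsCoatom M) :
    M = Subgroup.zpowers x ∨ M = h.part 2 (dvd_two m) 1 ∨ M = h.part 2 (dvd_two m) 0 := by
  haveI : Fact (Nat.Prime 2) := ⟨Nat.prime_two⟩
  have hidx := PGroup.index_of_isCoatom h.isPGroup hM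
  have hsq : ∀ i : ℤ, 2 ∣ i → x ^ i ∈ M := fun i hi =>
    frattini_le_coatom hM (by rw [h.frattini_eq, h.zpowers_sq_eq]; exact ⟨i, rfl, hi⟩)
  by_cases hx : x ∈ M
  · left
    exact (eq_of_le_of_index_two (Subgroup.zpowers_le.2 hx) h.index_zpowers hidx).symm
  right
  have hpart : ∀ e : ℤ, x ^ e * y ∈ M → h.part 2 (dvd_two m) e ≤ M := by
    rintro e he g ⟨i, ⟨rfl, hi⟩ | ⟨rfl, hi⟩⟩
    · exact hsq i (by exact_mod_cast hi)
    · rw [show i = (i - e) + e by ring, ← x_mul_xy]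
      exact M.mul_mem (hsq _ (by exact_mod_cast hi)) he
  by_cases hy : y ∈ M
  · right
    exact (eq_of_le_of_index_two (hpart 0 (by simpa using hy)) (h.index_part_two 0) hidx).symm
  · left
    have hxy : x * y ∈ M := by
      rw [Subgroup.mul_mem_iff_of_index_two hidx]
      simp [hx, hy]
    exact (eq_of_le_of_index_two (hpart 1 (by simpa using hxy)) (h.index_part_two 1) hidx).symm
where
  eq_of_le_of_index_two {A B : Subgroup S} (hle : A ≤ B) (hA : A.index = 2) (hB : B.index = 2) :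
      A = B := by
    refine Subgroup.eq_of_le_of_card_ge hle ?_
    have h1 := A.card_mul_index
    have h2 := B.card_mul_index
    rw [hA] at h1
    rw [hB] at h2
    omega

end Cfsg.Agent.TwoGroups.QDGen
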