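import Mathlib.GroupTheory.SpecificGroups.Dihedral
import Mathlib.GroupTheory.Perm.Fin
import Mathlib.GroupTheory.Sylow
import Mathlib.Data.Fintype.Prod

/-!
# A computable model of `D₈ ≀ C₂`

`W8` is `(DihedralGroup 4 × DihedralGroup 4) ⋊ C₂`, with generators `e`, `f`, `w`, the two normal
`E₁₆` (`V1`, `V2`), the automorphism `swapEF`, a lifting lemma and the isomorphism with a Sylow
2-subgroup of `S₈`.
-/

set_option autoImplicit false

namespace Cfsg.Agent.DWreath

open DihedralGroup

/-- The dihedral group of order 8. -/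
abbrev D := DihedralGroup 4

/-- Elements `(a, b) · w ^ s` of `D₈ ≀ C₂`. -/
@[ext]
structure W8 where
  a : D
  b : D
  s : Bool
deriving DecidableEq

namespace W8

def equivProd : W8 ≃ D × D × Bool where
  toFun x := (x.a, x.b, x.s)
  invFun x := ⟨x.1, x.2.1, x.2.2⟩

instance : Fintype W8 := Fintype.ofEquiv _ equivProd.symm

instance : Mul W8 :=
  ⟨fun x y => if x.s then ⟨x.a * y.b, x.b * y.a, !y.s⟩ else ⟨x.a * y.a, x.b * y.b, y.s⟩⟩

instance : One W8 := ⟨⟨1, 1, false⟩⟩

instance : Inv W8 :=
  ⟨fun x => if x.s then ⟨x.b⁻¹, x.a⁻¹, true⟩ else ⟨x.a⁻¹, x.b⁻¹, false⟩⟩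

theorem mul_def (x y : W8) :
    x * y = if x.s then ⟨x.a * y.b, x.b * y.a, !y.s⟩ else ⟨x.a * y.a, x.b * y.b, y.s⟩ := rfl

theorem one_def : (1 : W8) = ⟨1, 1, false⟩ := rfl

theorem inv_def (x : W8) :
    x⁻¹ = if x.s then ⟨x.b⁻¹, x.a⁻¹, true⟩ else ⟨x.a⁻¹, x.b⁻¹, false⟩ := rfl

instance : Group W8 where
  mul_assoc x y z := by
    obtain ⟨a, b, s⟩ := x
    obtain ⟨c, d, t⟩ := y
    obtain ⟨g, h, u⟩ := z
    cases s <;> cases t <;> simp [mul_def, mul_assoc]
  one_mul x := by
    obtain ⟨a, b, s⟩ := x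
    simp [mul_def, one_def]
  mul_one x := by
    obtain ⟨a, b, s⟩ := x
    cases s <;> simp [mul_def, one_def]
  inv_mul_cancel x := by
    obtain ⟨a, b, s⟩ := x
    cases s <;> simp [mul_def, one_def, inv_def]

theorem card_w8 : Nat.card W8 = 128 := by
  rw [Nat.card_congr equivProd, Nat.card_prod, Nat.card_prod, DihedralGroup.nat_card,
    Nat.card_eq_fintype_card, Fintype.card_bool]

/-- Left embedding of `D₈`. -/
def inl : D →* W8 where
  toFun a := ⟨a, 1, false⟩
  map_one' := rfl
  map_mul' a a' := by simp [mul_def]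

/-- Right embedding of `D₈`. -/
def inr : D →* W8 where
  toFun b := ⟨1, b, false⟩
  map_one' := rfl
  map_mul' a a' := by simp [mul_def]

def e : W8 := inl (sr 0)
def f : W8 := inl (sr 1)
def e' : W8 := inr (sr 0)
def f' : W8 := inr (sr 1)
def w : W8 := ⟨1, 1, true⟩
def z₁ : W8 := inl (r 2)
def z₂ : W8 := inr (r 2)
def z : W8 := ⟨r 2, r 2, false⟩

theorem w_inl_w (a : D) : w * inl a * w = inr a := by simp [inl, inr, w, mul_def]

theorem eq_mul (x : W8) : x = inl x.a * inr x.b * (if x.s then w else 1) := by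
  obtain ⟨a, b, s⟩ := x
  cases s <;> simp [inl, inr, w, mul_def, one_def]

/-- A subgroup containing `e` and `f` contains the first base factor. -/
theorem inl_mem {H : Subgroup W8} (he : e ∈ H) (hf : f ∈ H) (d : D) : inl d ∈ H := by
  have h1 : inl (r 1) ∈ H := by
    have h : (r 1 : D) = sr 0 * sr 1 := by decide
    rw [h, map_mul]; exact mul_mem he hf
  have hr : ∀ i : ZMod 4, inl (r i) ∈ H := by
    intro i
    have h : (r i : D) = r 1 ^ i.val := by simp
    rw [h, map_pow]; exact pow_mem h1 _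
  cases d with
  | r i => exact hr i
  | sr i =>
    have h : (sr i : D) = sr 0 * r i := by simp
    rw [h, map_mul]; exact mul_mem he (hr i)

theorem inr_mem {H : Subgroup W8} (he : e' ∈ H) (hf : f' ∈ H) (d : D) : inr d ∈ H := by
  have h1 : inr (r 1) ∈ H := by
    have h : (r 1 : D) = sr 0 * sr 1 := by decide
    rw [h, map_mul]; exact mul_mem he hf
  have hr : ∀ i : ZMod 4, inr (r i) ∈ H := by
    intro i
    have h : (r i : D) = r 1 ^ i.val := by simp
    rw [h, map_pow]; exact pow_mem h1 _
  cases d with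
  | r i => exact hr i
  | sr i =>
    have h : (sr i : D) = sr 0 * r i := by simp
    rw [h, map_mul]; exact mul_mem he (hr i)

theorem eq_top_of_gens (H : Subgroup W8) (he : e ∈ H) (hf : f ∈ H) (hw : w ∈ H) : H = ⊤ := by
  rw [eq_top_iff]
  intro x _
  rw [eq_mul x]
  refine mul_mem (mul_mem (inl_mem he hf _) ?_) ?_
  · rw [← w_inl_w]; exact mul_mem (mul_mem hw (inl_mem he hf _)) hw
  · split_ifs
    exacts [hw, one_mem _]

theorem hom_ext {H : Type*} [Group H] {φ ψ : W8 →* H} (he : φ e = ψ e) (hf : φ f = ψ f)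
    (hw : φ w = ψ w) : φ = ψ :=
  MonoidHom.ext fun x => (eq_top_of_gens (φ.eqLocus ψ) he hf hw).ge (Subgroup.mem_top x)

/-- The automorphism of `D₈` exchanging `sr 0` and `sr 1`. -/
def flipD : D → D
  | .r i => .r (-i)
  | .sr i => .sr (1 - i)

theorem flipD_mul (a b : D) : flipD (a * b) = flipD a * flipD b := by
  revert a b; decide

theorem flipD_flipD (a : D) : flipD (flipD a) = a := by
  revert a; decide

/-- The automorphism exchanging `e` with `f` and fixing `w`. -/
def swapEF : W8 ≃* W8 where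
  toFun x := ⟨flipD x.a, flipD x.b, x.s⟩
  invFun x := ⟨flipD x.a, flipD x.b, x.s⟩
  left_inv x := by simp [flipD_flipD]
  right_inv x := by simp [flipD_flipD]
  map_mul' x y := by
    obtain ⟨a, b, s⟩ := x
    cases s <;> simp [mul_def, flipD_mul]

theorem swapEF_swapEF (x : W8) : swapEF (swapEF x) = x := by
  simp [swapEF, flipD_flipD]

/-- The four-group containing `sr j`. -/
def four (j : ZMod 4) (d : D) : Prop := d = 1 ∨ d = r 2 ∨ d = sr j ∨ d = sr (j + 2)

instance (j : ZMod 4) : DecidablePred (four j) := fun d =>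
  inferInstanceAs (Decidable (d = 1 ∨ d = r 2 ∨ d = sr j ∨ d = sr (j + 2)))

theorem four_mul (j : ZMod 4) (a b : D) : four j a → four j b → four j (a * b) := by
  revert j a b; decide

theorem four_inv (j : ZMod 4) (a : D) : four j a → four j a⁻¹ := by
  revert j a; decide

/-- The normal elementary abelian subgroups of order 16, for `j = 0` and `j = 1`. -/
def V (j : ZMod 4) : Subgroup W8 where
  carrier := {x | x.s = false ∧ four j x.a ∧ four j x.b}
  one_mem' := ⟨rfl, Or.inl rfl, Or.inl rfl⟩
  mul_mem' := by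
    rintro ⟨a, b, s⟩ ⟨c, d, t⟩ ⟨hs : s = false, ha, hb⟩ ⟨ht : t = false, hc, hd⟩
    subst hs ht
    exact ⟨rfl, four_mul j _ _ ha hc, four_mul j _ _ hb hd⟩
  inv_mem' := by
    rintro ⟨a, b, s⟩ ⟨hs : s = false, ha, hb⟩
    subst hs
    exact ⟨rfl, four_inv j _ ha, four_inv j _ hb⟩

instance (j : ZMod 4) : DecidablePred (· ∈ V j) := fun x =>
  inferInstanceAs (Decidable (x.s = false ∧ four j x.a ∧ four j x.b))

/-- `⟨z₁, z₂⟩`. -/
def W : Subgroup W8 := V 0 ⊓ V 1

instance : DecidablePred (· ∈ W) := fun x =>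
  inferInstanceAs (Decidable (x ∈ V 0 ∧ x ∈ V 1))

theorem card_V (j : ZMod 4) : Nat.card (V j) = 16 := by
  rw [Nat.card_eq_fintype_card, Fintype.card_subtype]
  revert j; decide +kernel

theorem card_W : Nat.card W = 4 := by
  rw [Nat.card_eq_fintype_card, Fintype.card_subtype]
  decide +kernel

section Lift

variable {H : Type*} [Group H]

/-- Powers of an element of order dividing 4, indexed by `ZMod 4`. -/
def pw (q : H) (i : ZMod 4) : H := q ^ i.val

theorem pw_add {q : H} (hq : q ^ 4 = 1) (i j : ZMod 4) : pw q (i + j) = pw q i * pw q j := by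
  rw [pw, pw, pw, ← pow_add, ZMod.val_add, ← pow_eq_pow_mod _ hq]

theorem pw_sub {q : H} (hq : q ^ 4 = 1) (i j : ZMod 4) : pw q (i - j) = pw q i * (pw q j)⁻¹ := by
  rw [eq_mul_inv_iff_mul_eq, ← pw_add hq, sub_add_cancel]

/-- Homomorphisms from `D₈`. -/
def liftD (x y : H) (hx : x * x = 1) (hy : y * y = 1) (hq : (x * y) ^ 4 = 1) : D →* H where
  toFun
    | .r i => pw (x * y) i
    | .sr i => x * pw (x * y) i
  map_one' := by
    show pw (x * y) (0 : ZMod 4) = 1
    simp [pw]
  map_mul' := by
    have hconj : ∀ i, pw (x * y) i * x = x * (pw (x * y) i)⁻¹ := by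
      intro i
      have h1 : (x * y)⁻¹ = x⁻¹ * (x * y) * x := by
        rw [mul_inv_rev, inv_eq_of_mul_eq_one_right hx, inv_eq_of_mul_eq_one_right hy,
          ← mul_assoc x x y, hx, one_mul]
      have hxi : x⁻¹⁻¹ = x := inv_inv x
      have h2 : (pw (x * y) i)⁻¹ = x⁻¹ * pw (x * y) i * x := by
        rw [pw, ← inv_pow, h1]
        conv_lhs => rw [show x⁻¹ * (x * y) * x = x⁻¹ * (x * y) * x⁻¹⁻¹ by rw [hxi], conj_pow, hxi]
      rw [h2, ← mul_assoc, ← mul_assoc, mul_inv_cancel, one_mul]
    rintro (i | i) (j | j)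
    · simp only [r_mul_r, pw_add hq]
    · simp only [r_mul_sr]
      rw [← mul_assoc, hconj, mul_assoc, pw_sub hq]
      have hcom : Commute (pw (x * y) i)⁻¹ (pw (x * y) j) := ((Commute.refl _).pow_pow _ _).inv_left
      rw [hcom.eq]
    · simp only [sr_mul_r, pw_add hq, mul_assoc]
    · simp only [sr_mul_sr]
      rw [mul_assoc x, ← mul_assoc (pw (x * y) i) x, hconj, ← mul_assoc x, ← mul_assoc x, hx,
        one_mul, pw_sub hq]
      have hcom : Commute (pw (x * y) i)⁻¹ (pw (x * y) j) := ((Commute.refl _).pow_pow _ _).inv_left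
      rw [hcom.eq]

/-- Homomorphisms from `W8`. -/
def lift (φ : D →* H) (t : H) (ht : t * t = 1)
    (hc : ∀ a b, Commute (φ a) (t * φ b * t)) : W8 →* H where
  toFun x := φ x.a * (t * φ x.b * t) * (if x.s then t else 1)
  map_one' := by simp [one_def, ht]
  map_mul' := by
    have h1 : ∀ u v : H, t * u * t * (t * v * t) = t * (u * v) * t := fun u v => by
      rw [show t * u * t * (t * v * t) = t * u * (t * t) * v * t by group, ht]; group
    rintro ⟨a, b, s⟩ ⟨c, d, u⟩
    cases s
    · simp only [mul_def, Bool.false_eq_true, if_false, mul_one]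
      rw [map_mul, map_mul, ← h1,
        show φ a * φ c * (t * φ b * t * (t * φ d * t))
          = φ a * (φ c * (t * φ b * t)) * (t * φ d * t) by group,
        (hc c b).eq]
      group
    · simp only [mul_def, if_true]
      rw [map_mul, map_mul, ← h1]
      have htt : ∀ v : H, t * (t * v) = v := fun v => by rw [← mul_assoc, ht, one_mul]
      have hu : (if (!u) = true then t else 1) = t * (if u = true then t else 1) := by
        cases u <;> simp [ht]
      calc φ a * φ d * (t * φ b * t * (t * φ c * t)) * (if (!u) = true then t else 1)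
          = φ a * (φ d * (t * φ b * t)) * (t * φ c * t) * t * (if u = true then t else 1) := by
            rw [hu]; group
        _ = φ a * (t * φ b * t) * φ d * (t * φ c) * (if u = true then t else 1) := by
            rw [(hc d b).eq]
            simp only [mul_assoc, htt]
        _ = φ a * (t * φ b * t) * t * (t * φ d * t * φ c) * (if u = true then t else 1) := by
            simp only [mul_assoc, htt]
        _ = φ a * (t * φ b * t) * t * (φ c * (t * φ d * t)) * (if u = true then t else 1) := by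
            rw [(hc c d).eq]
        _ = φ a * (t * φ b * t) * t * (φ c * (t * φ d * t) * (if u = true then t else 1)) := by
            group

/-- Commutation on generators suffices. -/
theorem commute_of_gens {φ ψ : D →* H} (h00 : Commute (φ (sr 0)) (ψ (sr 0)))
    (h01 : Commute (φ (sr 0)) (ψ (sr 1))) (h10 : Commute (φ (sr 1)) (ψ (sr 0)))
    (h11 : Commute (φ (sr 1)) (ψ (sr 1))) (a b : D) : Commute (φ a) (ψ b) := by
  have key : ∀ (χ : D →* H) (v : H), Commute v (χ (sr 0)) → Commute v (χ (sr 1)) →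
      ∀ d, Commute v (χ d) := by
    intro χ v h0 h1 d
    have hr1 : Commute v (χ (r 1)) := by
      rw [show (r 1 : D) = sr 0 * sr 1 by decide, map_mul]; exact h0.mul_right h1
    have hr : ∀ i : ZMod 4, Commute v (χ (r i)) := fun i => by
      rw [show (r i : D) = r 1 ^ i.val by simp, map_pow]; exact hr1.pow_right _
    cases d with
    | r i => exact hr i
    | sr i => rw [show (sr i : D) = sr 0 * r i by simp, map_mul]; exact h0.mul_right (hr i)
  exact key ψ (φ a) (key φ _ h00.symm h10.symm a).symm (key φ _ h01.symm h11.symm a).symm b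

end Lift

open Equiv in
/-- `D₈` on the first four points. -/
def permD : D →* Equiv.Perm (Fin 8) :=
  liftD (swap 0 1) (swap 0 2 * swap 1 3) (by decide) (by decide) (by decide)

open Equiv in
/-- The exchange of the two halves. -/
def permT : Equiv.Perm (Fin 8) := swap 0 4 * swap 1 5 * swap 2 6 * swap 3 7

theorem permT_sq : permT * permT = 1 := by decide +kernel

/-- `D₈` on the last four points. -/
def permD' : D →* Equiv.Perm (Fin 8) :=
  MonoidHom.mk' (fun b => permT * permD b * permT) fun a b => by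
    rw [map_mul]
    simp only [mul_assoc]
    rw [← mul_assoc permT permT, permT_sq, one_mul]

/-- The standard embedding in `S₈`. -/
def toPerm : W8 →* Equiv.Perm (Fin 8) :=
  lift permD permT permT_sq fun a b =>
    commute_of_gens (φ := permD) (ψ := permD')
      (show permD (sr 0) * permD' (sr 0) = permD' (sr 0) * permD (sr 0) by decide +kernel)
      (show permD (sr 0) * permD' (sr 1) = permD' (sr 1) * permD (sr 0) by decide +kernel)
      (show permD (sr 1) * permD' (sr 0) = permD' (sr 0) * permD (sr 1) by decide +kernel)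
      (show permD (sr 1) * permD' (sr 1) = permD' (sr 1) * permD (sr 1) by decide +kernel) a b

theorem toPerm_injective : Function.Injective toPerm :=
  (injective_iff_map_eq_one toPerm).2 (by decide +kernel)

theorem isPGroup_w8 : IsPGroup 2 W8 := IsPGroup.of_card (n := 7) (by rw [card_w8]; norm_num)

/-- `W8` is a Sylow 2-subgroup of `S₈`. -/
theorem nonempty_mulEquiv_sylow (T : Sylow 2 (Equiv.Perm (Fin 8))) :
    Nonempty (W8 ≃* ↥(T : Subgroup (Equiv.Perm (Fin 8)))) := by
  have : Fact (Nat.Prime 2) := ⟨Nat.prime_two⟩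
  obtain ⟨k, hk⟩ := IsPGroup.iff_card.mp T.isPGroup'
  have hk7 : k ≤ 7 := by
    have hd := Subgroup.card_subgroup_dvd_card (T : Subgroup (Equiv.Perm (Fin 8)))
    rw [hk, Nat.card_eq_fintype_card, Fintype.card_perm, Fintype.card_fin] at hd
    by_contra hlt
    exact absurd ((pow_dvd_pow 2 (show 8 ≤ k by omega)).trans hd) (by decide)
  have hP : IsPGroup 2 toPerm.range := isPGroup_w8.of_surjective toPerm.rangeRestrict
    toPerm.rangeRestrict_surjective
  obtain ⟨Q, hQ⟩ := hP.exists_le_sylow
  obtain ⟨g, hg⟩ := MulAction.exists_smul_eq (Equiv.Perm (Fin 8)) Q T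
  let φ : W8 →* ↥(T : Subgroup (Equiv.Perm (Fin 8))) :=
    ((MulAut.conj g).toMonoidHom.comp toPerm).codRestrict _ fun x => by
      rw [← hg, Sylow.coe_subgroup_smul]
      exact ⟨toPerm x, hQ ⟨x, rfl⟩, rfl⟩
  have hinj : Function.Injective φ := fun x y h =>
    toPerm_injective ((MulAut.conj g).injective (congrArg Subtype.val h))
  refine ⟨MulEquiv.ofBijective φ ((Nat.bijective_iff_injective_and_card φ).2 ⟨hinj, ?_⟩)⟩
  have h1 := Nat.card_le_card_of_injective φ hinj
  rw [card_w8, hk] at h1
  rw [card_w8, hk]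
  have h2 : (2 : ℕ) ^ k ≤ 2 ^ 7 := Nat.pow_le_pow_right two_pos hk7
  omega

end W8

end Cfsg.Agent.DWreath
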