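import Cfsg.Agent.Lib.TwoGroups.DihedralWreathFacts

/-!
# `(D₈ ≀ C₂) ⋊ C₂` modulo its centre is again `D₈ ≀ C₂`

`W8x` is `W8 ⋊ ⟨n⟩` with `n` exchanging `e` and `f` and fixing `w`.
-/

set_option autoImplicit false
set_option maxRecDepth 10000

namespace Cfsg.Agent.DWreath

open DihedralGroup W8

/-- Elements `m · n ^ k`. -/
@[ext]
structure W8x where
  m : W8
  k : Bool
deriving DecidableEq

namespace W8x

def equivProd : W8x ≃ W8 × Bool where
  toFun x := (x.m, x.k)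
  invFun x := ⟨x.1, x.2⟩

instance : Fintype W8x := Fintype.ofEquiv _ equivProd.symm

instance : Mul W8x :=
  ⟨fun x y => if x.k then ⟨x.m * swapEF y.m, !y.k⟩ else ⟨x.m * y.m, y.k⟩⟩

instance : One W8x := ⟨⟨1, false⟩⟩

instance : Inv W8x := ⟨fun x => if x.k then ⟨swapEF x.m⁻¹, true⟩ else ⟨x.m⁻¹, false⟩⟩

theorem mul_def (x y : W8x) :
    x * y = if x.k then ⟨x.m * swapEF y.m, !y.k⟩ else ⟨x.m * y.m, y.k⟩ := rfl

theorem one_def : (1 : W8x) = ⟨1, false⟩ := rfl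

theorem inv_def (x : W8x) :
    x⁻¹ = if x.k then ⟨swapEF x.m⁻¹, true⟩ else ⟨x.m⁻¹, false⟩ := rfl

instance : Group W8x where
  mul_assoc x y z := by
    obtain ⟨a, s⟩ := x
    obtain ⟨b, t⟩ := y
    obtain ⟨c, u⟩ := z
    cases s <;> cases t <;> simp [mul_def, mul_assoc, swapEF_swapEF]
  one_mul x := by
    obtain ⟨a, s⟩ := x
    simp [mul_def, one_def]
  mul_one x := by
    obtain ⟨a, s⟩ := x
    cases s <;> simp [mul_def, one_def]
  inv_mul_cancel x := by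
    obtain ⟨a, s⟩ := x
    cases s <;> simp [mul_def, one_def, inv_def]

def xg : W8x := ⟨w, false⟩
def yg : W8x := ⟨1, true⟩ * ⟨e * f * w * (e * e'), false⟩
def tg : W8x := ⟨e, false⟩

/-- Membership in the centre `{1, z}`. -/
def InZ (x : W8x) : Prop := x = 1 ∨ x = ⟨z, false⟩

instance : DecidablePred InZ := fun x => inferInstanceAs (Decidable (x = 1 ∨ x = ⟨z, false⟩))

theorem rels : InZ (xg * xg) ∧ InZ (yg * yg) ∧ InZ ((xg * yg) ^ 4) ∧ InZ (tg * tg) ∧
    InZ ((xg * (tg * xg * tg))⁻¹ * (tg * xg * tg * xg)) ∧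
    InZ ((xg * (tg * yg * tg))⁻¹ * (tg * yg * tg * xg)) ∧
    InZ ((yg * (tg * xg * tg))⁻¹ * (tg * xg * tg * yg)) ∧
    InZ ((yg * (tg * yg * tg))⁻¹ * (tg * yg * tg * yg)) := by decide +kernel

/-- The word evaluating to the model element in the quotient. -/
def wordD (x y : W8x) : D → W8x
  | .r i => pw (x * y) i
  | .sr i => x * pw (x * y) i

/-- Normal form in the generators. -/
def word (v : W8) : W8x :=
  wordD xg yg v.a * (tg * wordD xg yg v.b * tg) * (if v.s then tg else 1)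

theorem gens_hit : ∀ g ∈ ([⟨e, false⟩, ⟨f, false⟩, ⟨w, false⟩, ⟨1, true⟩] : List W8x),
    ∃ v : W8, InZ ((word v)⁻¹ * g) := by decide +kernel

/-- A homomorphic image of `W8x` killing `z` of order 128 is isomorphic to `W8`. -/
theorem nonempty_mulEquiv {Q : Type*} [Group Q] [Finite Q] (Ψ : W8x →* Q)
    (hΨ : Function.Surjective Ψ) (hz : Ψ ⟨z, false⟩ = 1) (hQ : Nat.card Q = 128) :
    Nonempty (W8 ≃* Q) := by
  have hZ : ∀ u, InZ u → Ψ u = 1 := fun u hu => by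
    rcases hu with rfl | rfl
    exacts [map_one Ψ, hz]
  have hC : ∀ u v : W8x, InZ ((u * v)⁻¹ * (v * u)) → Commute (Ψ u) (Ψ v) := fun u v h => by
    show Ψ u * Ψ v = Ψ v * Ψ u
    have := hZ _ h
    rw [map_mul, map_inv, inv_mul_eq_one, map_mul, map_mul] at this
    exact this
  obtain ⟨hxx, hyy, hxy, htt, h00, h01, h10, h11⟩ := rels
  let φ : D →* Q := liftD (Ψ xg) (Ψ yg) (by rw [← map_mul, hZ _ hxx]) (by rw [← map_mul, hZ _ hyy])
    (by rw [← map_mul, ← map_pow, hZ _ hxy])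
  have hφ0 : φ (sr 0) = Ψ xg := by
    show Ψ xg * pw (Ψ xg * Ψ yg) 0 = _
    simp [pw]
  have hφ1 : φ (sr 1) = Ψ yg := by
    show Ψ xg * pw (Ψ xg * Ψ yg) 1 = _
    rw [pw, show (1 : ZMod 4).val = 1 from rfl, pow_one, ← mul_assoc, ← map_mul Ψ xg xg,
      hZ _ hxx, one_mul]
  have ht : Ψ tg * Ψ tg = 1 := by rw [← map_mul, hZ _ htt]
  let ψ : D →* Q := MonoidHom.mk' (fun b => Ψ tg * φ b * Ψ tg) fun a b => by
    rw [map_mul]
    simp only [mul_assoc]
    rw [← mul_assoc (Ψ tg) (Ψ tg), ht, one_mul]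
  have hψ : ∀ d, ψ d = Ψ tg * φ d * Ψ tg := fun d => rfl
  let Φ : W8 →* Q := W8.lift φ (Ψ tg) ht fun a b => commute_of_gens (φ := φ) (ψ := ψ)
    (by rw [hψ, hφ0, ← map_mul, ← map_mul]; exact hC _ _ h00)
    (by rw [hψ, hφ0, hφ1, ← map_mul, ← map_mul]; exact hC _ _ h01)
    (by rw [hψ, hφ0, hφ1, ← map_mul, ← map_mul]; exact hC _ _ h10)
    (by rw [hψ, hφ1, ← map_mul, ← map_mul]; exact hC _ _ h11) a b
  have hpw : ∀ i, pw (Ψ xg * Ψ yg) i = Ψ (pw (xg * yg) i) := fun i => by simp [pw]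
  have hD : ∀ d, φ d = Ψ (wordD xg yg d) := by
    rintro (i | i)
    · exact hpw i
    · show Ψ xg * pw _ i = Ψ (xg * pw (xg * yg) i)
      rw [map_mul, hpw]
  have hword : ∀ v, Φ v = Ψ (word v) := fun v => by
    show φ v.a * (Ψ tg * φ v.b * Ψ tg) * (if v.s then Ψ tg else 1) = _
    rw [word, map_mul, map_mul, map_mul, map_mul, hD, hD, apply_ite Ψ, map_one]
  have hmem : ∀ g ∈ ([⟨e, false⟩, ⟨f, false⟩, ⟨w, false⟩, ⟨1, true⟩] : List W8x),
      Ψ g ∈ Φ.range := fun g hg => by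
    obtain ⟨v, hv⟩ := gens_hit g hg
    have := hZ _ hv
    rw [map_mul, map_inv, inv_mul_eq_one] at this
    exact ⟨v, (hword v).trans this⟩
  have hsurj : Function.Surjective Φ := by
    intro q
    obtain ⟨⟨m, k⟩, rfl⟩ := hΨ q
    let emb : W8 →* Q := Ψ.comp (MonoidHom.mk' (fun m => (⟨m, false⟩ : W8x)) fun a b => rfl)
    have hm : Ψ ⟨m, false⟩ ∈ Φ.range := by
      have hemb : ∀ m, emb m = Ψ ⟨m, false⟩ := fun m => rfl
      have htop := eq_top_of_gens (Φ.range.comap emb)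
        (show emb e ∈ Φ.range by rw [hemb]; exact hmem _ (by simp))
        (show emb f ∈ Φ.range by rw [hemb]; exact hmem _ (by simp))
        (show emb w ∈ Φ.range by rw [hemb]; exact hmem _ (by simp))
      have : m ∈ Φ.range.comap emb := htop ▸ Subgroup.mem_top m
      rwa [Subgroup.mem_comap, hemb] at this
    cases k
    · exact hm
    · have : (⟨m, true⟩ : W8x) = ⟨m, false⟩ * ⟨1, true⟩ := by simp [mul_def]
      rw [this, map_mul]
      exact mul_mem hm (hmem _ (by simp))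
  exact ⟨MulEquiv.ofBijective Φ ((Nat.bijective_iff_surjective_and_card Φ).2
    ⟨hsurj, by rw [card_w8, hQ]⟩)⟩

end W8x

end Cfsg.Agent.DWreath
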