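import Cfsg.Agent.Lib.TwoGroups.DihedralWreath
import Mathlib.Data.Fintype.EquivFin

/-!
# Facts about the model of `D₈ ≀ C₂`, checked by evaluation
-/

set_option autoImplicit false
set_option maxRecDepth 10000

namespace Cfsg.Agent.DWreath.W8

open DihedralGroup

theorem center_eq : ∀ x : W8, x * e = e * x → x * f = f * x → x * w = w * x → x = 1 ∨ x = z := by
  decide +kernel

theorem z_central : ∀ x : W8, z * x = x * z := by decide +kernel

theorem z_ne_one : z ≠ 1 := by decide +kernel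

theorem V_normal (j : ZMod 4) (hj : j = 0 ∨ j = 1) : (V j).Normal := by
  refine ⟨fun x hx g => ?_⟩
  rcases hj with rfl | rfl <;> revert g x <;> decide +kernel

/-- Test elements for normal closures. -/
def tests : List W8 := [1, e, f, w, e * f, w * e, w * f]

/-- Necessary condition for lying in a normal elementary abelian subgroup. -/
def Cand (x : W8) : Prop :=
  x * x = 1 ∧ ∀ g ∈ tests, ∀ h ∈ tests,
    g * x * g⁻¹ * (h * x * h⁻¹) = h * x * h⁻¹ * (g * x * g⁻¹)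

instance : DecidablePred Cand := fun x =>
  inferInstanceAs (Decidable (x * x = 1 ∧ ∀ g ∈ tests, ∀ h ∈ tests,
    g * x * g⁻¹ * (h * x * h⁻¹) = h * x * h⁻¹ * (g * x * g⁻¹)))

theorem cand_mem : ∀ x : W8, Cand x → x ∈ V 0 ∨ x ∈ V 1 := by decide +kernel

theorem cand_mul : ∀ x : W8, x ∈ V 1 → x ∉ V 0 → ∀ y : W8, y ∈ V 0 → y ∉ V 1 →
    x * y = y * x → ¬ Cand (x * y) := by decide +kernel

/-- The normal elementary abelian subgroups lie in `V 0` or `V 1`. -/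
theorem le_V_of_normal (U : Subgroup W8) (hn : U.Normal) (hsq : ∀ x ∈ U, x * x = 1) :
    U ≤ V 0 ∨ U ≤ V 1 := by
  have hcomm : ∀ x ∈ U, ∀ y ∈ U, x * y = y * x := fun x hx y hy => by
    rw [← inv_eq_of_mul_eq_one_right (hsq _ (mul_mem hx hy)), mul_inv_rev,
      inv_eq_of_mul_eq_one_right (hsq x hx), inv_eq_of_mul_eq_one_right (hsq y hy)]
  have hcand : ∀ x ∈ U, Cand x := fun x hx =>
    ⟨hsq x hx, fun g _ h _ => hcomm _ (hn.conj_mem x hx g) _ (hn.conj_mem x hx h)⟩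
  by_contra hh
  simp only [not_or, SetLike.not_le_iff_exists] at hh
  obtain ⟨⟨x, hxU, hx0⟩, y, hyU, hy1⟩ := hh
  exact cand_mul x ((cand_mem x (hcand x hxU)).resolve_left hx0) hx0 y
    ((cand_mem y (hcand y hyU)).resolve_right hy1) hy1 (hcomm x hxU y hyU)
    (hcand _ (mul_mem hxU hyU))

theorem swapEF_mem_one : ∀ x : W8, x ∈ V 0 → swapEF x ∈ V 1 := by decide +kernel

theorem swapEF_mem_zero : ∀ x : W8, x ∈ V 1 → swapEF x ∈ V 0 := by decide +kernel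

theorem swapEF_z : swapEF z = z := by decide +kernel

theorem comm_class : ∀ X : W8, X ∈ V 0 → ∀ Y : W8, Y ∈ V 1 → X * Y = Y * X → X ∉ W → Y ∉ W →
    (X * e⁻¹ ∈ W ∧ Y * f'⁻¹ ∈ W) ∨ (X * e'⁻¹ ∈ W ∧ Y * f⁻¹ ∈ W) := by decide +kernel

theorem comm_ef' : ∀ X : W8, X * e⁻¹ ∈ W → ∀ Y : W8, Y * f'⁻¹ ∈ W → X * Y = Y * X := by
  decide +kernel

theorem comm_e'f : ∀ X : W8, X * e'⁻¹ ∈ W → ∀ Y : W8, Y * f⁻¹ ∈ W → X * Y = Y * X := by
  decide +kernel

theorem comm_W : ∀ X : W8, X ∈ W → ∀ Y : W8, Y.s = false → X * Y = Y * X := by decide +kernel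

theorem sq_ef : ∀ X : W8, X * e⁻¹ ∈ W → ∀ Y : W8, Y * f⁻¹ ∈ W → X * Y * (X * Y) = z₁ := by
  decide +kernel

theorem sq_ef' : ∀ X : W8, X * e'⁻¹ ∈ W → ∀ Y : W8, Y * f'⁻¹ ∈ W → X * Y * (X * Y) = z₂ := by
  decide +kernel

theorem mem_W_iff : ∀ u : W8, u ∈ W → u = 1 ∨ u = z₁ ∨ u = z₂ ∨ u = z₁ * z₂ := by decide +kernel

theorem cent_base : ∀ p : W8, p * e = e * p → p * f = f * p → p * e' = e' * p → p * f' = f' * p →
    p ∈ W := by decide +kernel

theorem s_of_mem_W : ∀ x : W8, x ∈ W → x.s = false := fun _ hx => hx.1.1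

theorem s_mul : ∀ x : W8, ∀ y : W8, (x * y).s = (if x.s then !y.s else y.s) := fun x y => by
  rw [mul_def]; cases x.s <;> simp

theorem sq_mem_W : ∀ b : W8, b.s = false → b * b ∈ W := by decide +kernel

theorem card_base : Nat.card {x : W8 // x.s = false} = 64 := by
  rw [Nat.card_eq_fintype_card, Fintype.card_subtype]
  decide +kernel

theorem w_conj : w * e * w = e' ∧ w * e' * w = e ∧ w * f * w = f' ∧ w * f' * w = f ∧ w * w = 1 := by
  decide +kernel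

theorem gen_facts : e * f ≠ f * e ∧ e' * f' ≠ f' * e' ∧ e * f' = f' * e ∧ e' * f = f * e' ∧
    e ∈ V 0 ∧ e' ∈ V 0 ∧ f ∈ V 1 ∧ f' ∈ V 1 ∧ w.s = true ∧
    e * f * (e * f) = z₁ ∧ e' * f' * (e' * f') = z₂ := by decide +kernel

theorem fix_f : ∀ X : W8, X * f⁻¹ ∈ W → ∃ h ∈ ([1, e] : List W8),
    h * X * h⁻¹ = f ∨ h * X * h⁻¹ = f * z := by decide +kernel

theorem fix_e : ∀ X : W8, X * e⁻¹ ∈ W →
    (e * X * e⁻¹ = X) ∧ ∃ h ∈ ([1, f] : List W8), h * X * h⁻¹ = e ∨ h * X * h⁻¹ = e * z := by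
  decide +kernel

theorem fix_w : ∀ x : W8, x.s = true → x * x = 1 → ∃ g : D, inr g * x * (inr g)⁻¹ = w := by
  decide +kernel

theorem fix_p : ∀ p : W8, p * w * p⁻¹ = w → (p * e * p⁻¹ = e ∨ p * e * p⁻¹ = e * z) →
    (p * f * p⁻¹ = f ∨ p * f * p⁻¹ = f * z) → p = 1 ∨ p = z := by decide +kernel

theorem inr_comm : ∀ g : D, inr g * e * (inr g)⁻¹ = e ∧ inr g * f * (inr g)⁻¹ = f := by
  decide +kernel

end Cfsg.Agent.DWreath.W8
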