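import Cfsg.Agent.Lib.TwoGroups.WreathedCentre
import Cfsg.Agent.Lib.TwoGroups.QuasiDihedral
import Cfsg.Agent.Lib.ZStar.Main
import Cfsg.Agent.Lib.ZStar.FusionCentre
import Cfsg.Agent.Lib.Transfer.Thompson
import Cfsg.Agent.Lib.Coprime.Basic

/-!
# The centre of a quasi-dihedral or wreathed Sylow 2-subgroup in presence of an isolated involution

* `conj_eq_of_center`: central elements of `S` are fused into `S` only trivially;
* `oddCore_sup_normal`: if all elements of `Z ≤ S` are in `Z*`, then `O(G) Z` is normal and `G = O(G) C(Z)`.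
-/

set_option autoImplicit false
set_option linter.style.haveILetI false

namespace Cfsg.Agent.WreathedCentre

open Subgroup

universe u

variable {G : Type u} [Group G] [Finite G]

theorem commute_center {S : Subgroup G} {c : G} (hc : c ∈ (center S).map S.subtype) :
    c ∈ S ∧ ∀ s ∈ S, s * c = c * s := by
  obtain ⟨⟨c, hcS⟩, hc', rfl⟩ := hc
  exact ⟨hcS, fun s hs => congrArg Subtype.val (Subgroup.mem_center_iff.mp hc' ⟨s, hs⟩)⟩

/-- An isolated involution of `S` is central in `S` and conjugate to nothing else in `S`. -/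
theorem isolated_central (S : Sylow 2 G) {z : G} (hzS : z ∈ (S : Subgroup G))
    (hz : Cfsg.IsIsolatedInvolution z) :
    z ∈ (center ↥(S : Subgroup G)).map (S : Subgroup G).subtype ∧
      ∀ g : G, g * z * g⁻¹ ∈ (S : Subgroup G) → g * z * g⁻¹ = z := by
  have : Fact (Nat.Prime 2) := ⟨Nat.prime_two⟩
  have hcen : ∀ s ∈ (S : Subgroup G), s * z = z * s := by
    intro s hs
    have h1 : s * z * s⁻¹ * z⁻¹ ∈ oddCore G := ZStar.inZStar hz s
    have h2 : s * z * s⁻¹ * z⁻¹ ∈ (S : Subgroup G) :=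
      mul_mem (mul_mem (mul_mem hs hzS) (inv_mem hs)) (inv_mem hzS)
    obtain ⟨k, hk⟩ := S.2 ⟨_, h2⟩
    have h4 : orderOf (s * z * s⁻¹ * z⁻¹) ∣ 2 ^ k := orderOf_dvd_of_pow_eq_one (congrArg Subtype.val hk)
    have h5 : orderOf (s * z * s⁻¹ * z⁻¹) ∣ Nat.card (oddCore G) := Subgroup.orderOf_dvd_natCard _ h1
    have hcop : (2 ^ k).Coprime (Nat.card (oddCore G)) :=
      (Nat.coprime_two_left.mpr (PCore.odd_card_oddCore (G := G))).pow_left k
    have h6 := orderOf_eq_one_iff.mp (Nat.eq_one_of_dvd_coprimes hcop h4 h5)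
    rwa [mul_inv_eq_one, mul_inv_eq_iff_eq_mul] at h6
  refine ⟨⟨⟨z, hzS⟩, Subgroup.mem_center_iff.mpr fun s => Subtype.ext (hcen s s.2), rfl⟩, fun g hg => ?_⟩
  exact hz.2 g (hcen _ hg).symm

/-- Central elements of a Sylow 2-subgroup of the shape `Data` are not fused with other elements. -/
theorem conj_eq_of_center (S : Sylow 2 G) {A : Subgroup ↥(S : Subgroup G)} (hA : Data ↥(S : Subgroup G) A)
    {z : G} (hzS : z ∈ (S : Subgroup G)) (hz : Cfsg.IsIsolatedInvolution z) {y : G}
    (hy : y ∈ (center ↥(S : Subgroup G)).map (S : Subgroup G).subtype) (g : G)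
    (hg : g * y * g⁻¹ ∈ (S : Subgroup G)) : g * y * g⁻¹ = y := by
  have : Fact (Nat.Prime 2) := ⟨Nat.prime_two⟩
  obtain ⟨hzc, hzfix⟩ := isolated_central S hzS hz
  have hz2 : z * z = 1 := by
    have := pow_orderOf_eq_one z
    rwa [hz.1, pow_two] at this
  have hz1 : z ≠ 1 := fun e => by have := hz.1; rw [e, orderOf_one] at this; omega
  set AG := A.map (S : Subgroup G).subtype with hAG
  have hAGS : AG ≤ (S : Subgroup G) := map_subtype_le A
  have hAGcomm : ∀ a ∈ AG, ∀ b ∈ AG, a * b = b * a := by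
    rintro _ ⟨a, ha, rfl⟩ _ ⟨b, hb, rfl⟩
    exact congrArg Subtype.val (hA.comm a ha b hb)
  have hAGc : Nat.card ↥AG = Nat.card ↥A := Subgroup.card_map_of_injective Subtype.val_injective
  have hSc : Nat.card ↥AG * 2 = Nat.card ↥(S : Subgroup G) := by
    rw [hAGc]
    have h := A.card_mul_index
    rwa [hA.index] at h
  have huniq : ∀ B : Subgroup G, B ≤ (S : Subgroup G) → (∀ a ∈ B, ∀ b ∈ B, a * b = b * a) →
      Nat.card ↥B = Nat.card ↥AG → B = AG := by
    intro B hB hBc hBcard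
    have h := hA.uniq (B.subgroupOf (S : Subgroup G)) (fun a ha b hb => Subtype.ext (hBc _ ha _ hb))
      (by rw [Nat.card_congr (subgroupOfEquivOfLe hB).toEquiv, hBcard, hAGc])
    rw [hAG, ← h, subgroupOf_map_subtype, inf_of_le_left hB]
  have hAGn : (S : Subgroup G) ≤ normalizer (AG : Set G) := by
    haveI : A.Normal := Subgroup.normal_of_index_eq_two hA.index
    exact (normal_subgroupOf_iff_le_normalizer hAGS).mp (by
      rwa [hAG, subgroupOf, comap_map_eq_self_of_injective Subtype.val_injective])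
  have hcenA : ∀ c ∈ (center ↥(S : Subgroup G)).map (S : Subgroup G).subtype, c ∈ AG :=
    fun c hc => Subgroup.map_mono hA.center_le hc
  have hzA : z ∈ AG := hcenA z hzc
  -- odd order elements of `N(A)` centralise `A`
  have hodd : ∀ n ∈ normalizer (AG : Set G), Odd (orderOf n) → ∀ a ∈ AG, n * a = a * n := by
    intro n hn hno
    have key : ∀ a : G, a ∈ AG → a * a = 1 → n * a * n⁻¹ = a := by
      intro a ha ha2
      classical
      let Ω : Set G := {b | b ∈ AG ∧ b * b = 1 ∧ b ≠ 1 ∧ b ≠ z}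
      have hΩfin : Ω.ncard ≤ 2 := by
        let Ω' : Set ↥(S : Subgroup G) := {b | b ∈ A ∧ b * b = 1}
        have h4 : Ω'.ncard ≤ 4 := le_of_eq_of_le (Nat.card_coe_set_eq _).symm hA.omega
        obtain ⟨⟨z', hz'⟩, hzz', e⟩ := hzA
        simp only [coe_subtype] at e
        have h1 : ({1, z} : Set G) ∪ Ω ⊆ ((↑) : ↥(S : Subgroup G) → G) '' Ω' := by
          rintro b ((rfl | rfl) | ⟨⟨⟨b', hb'⟩, hbA, rfl⟩, hb2, -, -⟩)
          · exact ⟨1, ⟨one_mem A, one_mul 1⟩, rfl⟩
          · exact ⟨⟨z', hz'⟩, ⟨hzz', Subtype.ext (by subst e; exact hz2)⟩, e⟩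
          · exact ⟨⟨b', hb'⟩, ⟨hbA, Subtype.ext hb2⟩, rfl⟩
        have h2 := (Set.ncard_le_ncard h1).trans (Set.ncard_image_le (s := Ω'))
        rw [Set.ncard_union_eq (Set.disjoint_left.mpr fun b hb hb' => by
          rcases hb with rfl | rfl
          · exact hb'.2.2.1 rfl
          · exact hb'.2.2.2 rfl), Set.ncard_pair hz1.symm] at h2
        omega
      have hnz : n * z * n⁻¹ = z :=
        hzfix n (hAGS ((Subgroup.mem_normalizer_iff.mp hn z).mp hzA))
      by_cases ha1 : a = 1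
      · simp [ha1]
      by_cases haz : a = z
      · rw [haz, hnz]
      have hmap : ∀ b ∈ Ω, n * b * n⁻¹ ∈ Ω := by
        rintro b ⟨hb, hb2, hb1, hbz⟩
        refine ⟨(Subgroup.mem_normalizer_iff.mp hn b).mp hb, ?_, ?_, ?_⟩
        · calc n * b * n⁻¹ * (n * b * n⁻¹) = n * (b * b) * n⁻¹ := by group
            _ = 1 := by rw [hb2]; group
        · exact fun e => hb1 (by simpa [mul_assoc] using congrArg (fun t => n⁻¹ * t * n) e)
        · intro e
          rw [← hnz] at e
          exact hbz (by simpa [mul_assoc] using congrArg (fun t => n⁻¹ * t * n) e)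
      by_contra hne
      set b := n * a * n⁻¹ with hb
      have haΩ : a ∈ Ω := ⟨ha, ha2, ha1, haz⟩
      have hbΩ : b ∈ Ω := hmap a haΩ
      have hcΩ : n * b * n⁻¹ ∈ Ω := hmap b hbΩ
      have hca : n * b * n⁻¹ = a := by
        have hcb : n * b * n⁻¹ ≠ b := fun e => hne (by
          simpa [hb, mul_assoc] using congrArg (fun t => n⁻¹ * t * n) e)
        by_contra hca
        have h3 : ({a, b, n * b * n⁻¹} : Set G).ncard = 3 := by
          rw [Set.ncard_eq_three]
          exact ⟨a, b, n * b * n⁻¹, fun e => hne e.symm, Ne.symm hca, Ne.symm hcb, rfl⟩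
        have h5 := Set.ncard_le_ncard (show ({a, b, n * b * n⁻¹} : Set G) ⊆ Ω by
          rintro t (rfl | rfl | rfl) <;> assumption)
        omega
      have hpow : ∀ j : ℕ, n ^ (2 * j) * a * (n ^ (2 * j))⁻¹ = a := by
        intro j
        induction j with
        | zero => simp
        | succ j ih =>
          calc n ^ (2 * (j + 1)) * a * (n ^ (2 * (j + 1)))⁻¹
              = n * (n * (n ^ (2 * j) * a * (n ^ (2 * j))⁻¹) * n⁻¹) * n⁻¹ := by
                rw [show 2 * (j + 1) = 2 * j + 1 + 1 by ring, pow_succ', pow_succ']; group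
            _ = a := by rw [ih]; exact hca
      obtain ⟨j, hj⟩ := hno
      apply hne
      have h6 := hpow (j + 1)
      rwa [show 2 * (j + 1) = orderOf n + 1 by omega, pow_succ, pow_orderOf_eq_one, one_mul] at h6
    -- `n` fixes `A`: by induction on the order
    have hfix : ∀ k : ℕ, ∀ a ∈ AG, a ^ 2 ^ k = 1 → n * a * n⁻¹ = a := by
      intro k
      induction k with
      | zero => intro a _ h; rw [pow_zero, pow_one] at h; simp [h]
      | succ k ih =>
        intro a ha h
        set d := n * a * n⁻¹ * a⁻¹ with hd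
        have hna : n * a * n⁻¹ ∈ AG := (Subgroup.mem_normalizer_iff.mp hn a).mp ha
        have hdA : d ∈ AG := mul_mem hna (inv_mem ha)
        have hd2 : d * d = 1 := by
          have hsq : n * (a * a) * n⁻¹ = a * a := ih _ (mul_mem ha ha) (by rw [← pow_two, ← pow_mul, ← pow_succ', h])
          calc d * d = n * a * n⁻¹ * ((a⁻¹) * (n * a * n⁻¹)) * a⁻¹ := by rw [hd]; group
            _ = n * a * n⁻¹ * ((n * a * n⁻¹) * a⁻¹) * a⁻¹ := by rw [hAGcomm _ (inv_mem ha) _ hna]
            _ = n * (a * a) * n⁻¹ * (a * a)⁻¹ := by group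
            _ = 1 := by rw [hsq, mul_inv_cancel]
        have hdn : Commute n d := mul_inv_eq_iff_eq_mul.mp (key d hdA hd2)
        have hpow : ∀ j : ℕ, n ^ j * a * (n ^ j)⁻¹ = d ^ j * a := by
          intro j
          induction j with
          | zero => simp
          | succ j ihj =>
            calc n ^ (j + 1) * a * (n ^ (j + 1))⁻¹ = n * (n ^ j * a * (n ^ j)⁻¹) * n⁻¹ := by
                  rw [pow_succ']; group
              _ = n * d ^ j * n⁻¹ * (n * a * n⁻¹) := by rw [ihj]; group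
              _ = d ^ (j + 1) * a := by
                rw [(hdn.pow_right j).eq, mul_inv_cancel_right, pow_succ, hd]; group
        have h7 := hpow (orderOf n)
        rw [pow_orderOf_eq_one, one_mul, inv_one, mul_one, eq_comm, mul_eq_right] at h7
        obtain ⟨j, hj⟩ := hno
        rw [hj, pow_succ, pow_mul, pow_two, hd2, one_pow, one_mul] at h7
        rw [hd, mul_inv_eq_one] at h7
        exact h7
    intro a ha
    obtain ⟨k, hk⟩ := S.2 ⟨a, hAGS ha⟩
    exact mul_inv_eq_iff_eq_mul.mp (hfix k a ha (congrArg Subtype.val hk))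
  -- hence `N(A)` centralises central elements of `S`
  have hNfix : ∀ c ∈ (center ↥(S : Subgroup G)).map (S : Subgroup G).subtype,
      ∀ n ∈ normalizer (AG : Set G), n * c * n⁻¹ = c := by
    intro c hc n hn
    obtain ⟨hcS, hcc⟩ := commute_center hc
    set N := normalizer (AG : Set G)
    set M := (centralizer (AG : Set G)).subgroupOf N with hM
    haveI : M.Normal := by
      refine ⟨fun t ht q => ?_⟩
      rw [hM, mem_subgroupOf, mem_centralizer_iff] at ht ⊢
      intro a ha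
      have h := ht _ ((Subgroup.mem_normalizer_iff''.mp q.2 a).mp ha)
      push_cast
      calc a * ((q : G) * (t : G) * (q : G)⁻¹)
          = (q : G) * (((q : G)⁻¹ * a * q) * (t : G)) * (q : G)⁻¹ := by group
        _ = (q : G) * ((t : G) * ((q : G)⁻¹ * a * q)) * (q : G)⁻¹ := by rw [h]
        _ = _ := by group
    have hQ : IsPGroup 2 (↥N ⧸ M) := by
      intro q
      induction q using QuotientGroup.induction_on with
      | H t =>
        obtain ⟨k, m, hm, hkm⟩ := Nat.exists_eq_two_pow_mul_odd (orderOf_pos (t : G)).ne'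
        refine ⟨k, ?_⟩
        rw [← QuotientGroup.mk_pow, QuotientGroup.eq_one_iff, hM, mem_subgroupOf, mem_centralizer_iff]
        intro a ha
        refine (hodd _ (pow_mem t.2 _) ?_ a ha).symm
        rw [orderOf_pow' _ (by positivity), hkm, Nat.gcd_eq_right (Dvd.intro m rfl),
          Nat.mul_div_cancel_left _ (by positivity)]
        exact hm
    set T : Sylow 2 ↥N := S.subtype hAGn
    have htop : ((T.mapSurjective (QuotientGroup.mk'_surjective M) : Sylow 2 (↥N ⧸ M)) : Subgroup (↥N ⧸ M)) = ⊤ :=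
      ((T.mapSurjective (QuotientGroup.mk'_surjective M)).3 (IsPGroup.to_subgroup hQ ⊤) le_top).symm
    rw [Sylow.coe_mapSurjective] at htop
    have hmem : (⟨n, hn⟩ : ↥N) ∈ (T : Subgroup ↥N) ⊔ M := by
      rw [← QuotientGroup.ker_mk' M, ← comap_map_eq, htop, comap_top]
      exact mem_top _
    have hle : (T : Subgroup ↥N) ⊔ M ≤ (centralizer ({c} : Set G)).subgroupOf N := by
      refine sup_le (fun t ht => ?_) (fun t ht => ?_)
      · rw [mem_subgroupOf, mem_centralizer_singleton_iff]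
        exact hcc _ (by simpa [T, Sylow.coe_subtype, mem_subgroupOf] using ht)
      · rw [mem_subgroupOf, mem_centralizer_singleton_iff]
        exact (mem_centralizer_iff.mp ht c (hcenA c hc)).symm
    have h := hle hmem
    rw [mem_subgroupOf, mem_centralizer_singleton_iff] at h
    exact mul_inv_eq_iff_eq_mul.mpr h
  -- conjugates inside `A`
  have caseA : ∀ c ∈ (center ↥(S : Subgroup G)).map (S : Subgroup G).subtype, ∀ g : G,
      g * c * g⁻¹ ∈ AG → g * c * g⁻¹ = c := by
    intro c hc g hgA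
    obtain ⟨hcS, hcc⟩ := commute_center hc
    set d := g * c * g⁻¹ with hd
    set Cd := centralizer ({d} : Set G)
    have h1 : AG ≤ Cd := fun a ha => mem_centralizer_singleton_iff.mpr (hAGcomm a ha d hgA)
    have h2 : AG.map (MulAut.conj g).toMonoidHom ≤ Cd := by
      rintro _ ⟨a, ha, rfl⟩
      rw [mem_centralizer_singleton_iff]
      show g * a * g⁻¹ * d = d * (g * a * g⁻¹)
      rw [hd]
      calc g * a * g⁻¹ * (g * c * g⁻¹) = g * (a * c) * g⁻¹ := by group
        _ = g * (c * a) * g⁻¹ := by rw [hcc a (hAGS ha)]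
        _ = _ := by group
    have hA2 : IsPGroup 2 ↥AG := S.2.to_le hAGS
    have hA2' : IsPGroup 2 ↥(AG.map (MulAut.conj g).toMonoidHom) := hA2.map _
    obtain ⟨P, hP⟩ := (hA2.comap_subtype (K := Cd)).exists_le_sylow
    obtain ⟨P', hP'⟩ := (hA2'.comap_subtype (K := Cd)).exists_le_sylow
    obtain ⟨h, hh⟩ := MulAction.exists_smul_eq ↥Cd P' P
    obtain ⟨S', hS'⟩ := (P.2.map Cd.subtype).exists_le_sylow
    obtain ⟨k, hk⟩ := MulAction.exists_smul_eq G S' S
    -- both conjugates lie in `S` after moving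
    have hkS : ∀ t ∈ (S' : Subgroup G), k * t * k⁻¹ ∈ (S : Subgroup G) := fun t ht => by
      rw [← hk, Sylow.coe_subgroup_smul]
      exact ⟨t, ht, rfl⟩
    have hkA : AG.map (MulAut.conj k).toMonoidHom = AG := huniq _ (by
        rintro _ ⟨a, ha, rfl⟩
        exact hkS a (hS' ⟨⟨a, h1 ha⟩, hP ha, rfl⟩))
      (by rintro _ ⟨a, ha, rfl⟩ _ ⟨b, hb, rfl⟩; rw [← map_mul, ← map_mul, hAGcomm a ha b hb])
      (Subgroup.card_map_of_injective (MulAut.conj k).injective)
    have hkgA : AG.map (MulAut.conj (k * h * g)).toMonoidHom = AG := huniq _ (by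
        rintro _ ⟨a, ha, rfl⟩
        have h3 : (⟨(h : G) * (g * a * g⁻¹) * (h : G)⁻¹,
            mul_mem (mul_mem h.2 (h2 ⟨a, ha, rfl⟩)) (inv_mem h.2)⟩ : ↥Cd) ∈ (P : Subgroup ↥Cd) := by
          rw [← hh, Sylow.coe_subgroup_smul]
          exact ⟨⟨g * a * g⁻¹, h2 ⟨a, ha, rfl⟩⟩, hP' (show g * a * g⁻¹ ∈ AG.map (MulAut.conj g).toMonoidHom from
            ⟨a, ha, rfl⟩), rfl⟩
        have h4 := hkS _ (hS' ⟨_, h3, rfl⟩)
        simpa [mul_assoc] using h4)
      (by rintro _ ⟨a, ha, rfl⟩ _ ⟨b, hb, rfl⟩; rw [← map_mul, ← map_mul, hAGcomm a ha b hb])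
      (Subgroup.card_map_of_injective (MulAut.conj _).injective)
    have hmemN : ∀ q : G, AG.map (MulAut.conj q).toMonoidHom = AG → q ∈ normalizer (AG : Set G) := by
      intro q hq
      refine mem_normalizer_iff.mpr fun a => ⟨fun ha => hq.le ⟨a, ha, rfl⟩, fun ha => ?_⟩
      rw [← hq] at ha
      obtain ⟨b, hb, hbe⟩ := ha
      rwa [← (MulAut.conj q).injective hbe]
    have e1 := hNfix c hc _ (hmemN _ hkgA)
    have e2 := hNfix c hc _ (hmemN _ hkA)
    have hhd : (h : G) * d * (h : G)⁻¹ = d :=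
      mul_inv_eq_iff_eq_mul.mpr (mem_centralizer_singleton_iff.mp h.2)
    have e3 : k * d * k⁻¹ = c := by
      calc k * d * k⁻¹ = k * ((h : G) * d * (h : G)⁻¹) * k⁻¹ := by rw [hhd]
        _ = k * h * g * c * (k * h * g)⁻¹ := by rw [hd]; group
        _ = c := e1
    apply (MulAut.conj k).injective
    show k * d * k⁻¹ = k * c * k⁻¹
    rw [e3, e2]
  -- the general case
  obtain ⟨hyS, hyc⟩ := commute_center hy
  set u := g * y * g⁻¹ with hu
  by_cases huA : u ∈ AG
  · exact caseA y hy g huA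
  exfalso
  have hu2A : u * u ∈ AG := by
    have h := Subgroup.mul_self_mem_of_index_two hA.index (⟨u, hg⟩ : ↥(S : Subgroup G))
    exact ⟨_, h, rfl⟩
  have hy2 : y * y ∈ (center ↥(S : Subgroup G)).map (S : Subgroup G).subtype := mul_mem hy hy
  have hu2 : u * u = y * y := by
    have h := caseA _ hy2 g (by rw [show g * (y * y) * g⁻¹ = u * u by rw [hu]; group]; exact hu2A)
    rw [← h, hu]; group
  set v := u * y⁻¹ with hv
  have hvS : v ∈ (S : Subgroup G) := mul_mem hg (inv_mem hyS)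
  have hyA : y ∈ AG := hcenA y hy
  have hvA : v ∉ AG := fun h => huA (by simpa [hv] using mul_mem h hyA)
  have hv2 : v ^ 2 = 1 := by
    have hc : Commute u y⁻¹ := Commute.inv_right (hyc u hg)
    rw [hv, hc.mul_pow, pow_two u, hu2, pow_two y⁻¹, ← mul_inv_rev, mul_inv_cancel]
  by_cases hfus : ∃ h : G, h * v * h⁻¹ ∈ AG
  swap
  · -- transfer
    push Not at hfus
    have hrel : AG.relIndex (S : Subgroup G) = 2 := by
      rw [Subgroup.relIndex, hAG, subgroupOf, comap_map_eq_self_of_injective Subtype.val_injective, hA.index]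
    obtain ⟨M, hMn, hMi, hvM⟩ :=
      Transfer.exists_index_two_of_involution S AG hAGS hrel v hv2 hvS hvA hfus
    apply hvM
    rw [hv, Subgroup.mul_mem_iff_of_index_two hMi, inv_mem_iff]
    exact ⟨fun h => by simpa [hu, mul_assoc] using hMn.conj_mem _ h g⁻¹, fun h => hMn.conj_mem _ h g⟩
  obtain ⟨h, he⟩ := hfus
  set e := h * v * h⁻¹ with hedef
  have he2 : e * e = 1 := by
    rw [hedef, show h * v * h⁻¹ * (h * v * h⁻¹) = h * v ^ 2 * h⁻¹ by rw [pow_two]; group, hv2]; group
  have he1 : e ≠ 1 := fun e1 => hvA (by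
    rw [show v = 1 by simpa [hedef, mul_assoc] using congrArg (fun t => h⁻¹ * t * h) e1]; exact one_mem AG)
  have hez : ∀ q : G, q * e * q⁻¹ ≠ z := by
    intro q hq
    have h1 : (q * h)⁻¹ * z * (q * h) = v := by rw [← hq, hedef]; group
    have h2 := hzfix (q * h)⁻¹ (by rw [inv_inv, h1]; exact hvS)
    rw [inv_inv, h1] at h2
    exact hvA (h2 ▸ hzA)
  -- `A` is a Sylow 2-subgroup of `C(e)`
  set Ce := centralizer ({e} : Set G)
  have hAe : AG ≤ Ce := fun a ha => mem_centralizer_singleton_iff.mpr (hAGcomm a ha e he)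
  obtain ⟨P, hP⟩ := ((S.2.to_le hAGS).comap_subtype (K := Ce)).exists_le_sylow
  have hPA : (P : Subgroup ↥Ce) = AG.subgroupOf Ce := by
    by_contra hne
    have hlt : AG.subgroupOf Ce < P := lt_of_le_of_ne hP (Ne.symm hne)
    have hc1 : Nat.card ↥AG < Nat.card ↥((P : Subgroup ↥Ce).map Ce.subtype) := by
      rw [show Nat.card ↥((P : Subgroup ↥Ce).map Ce.subtype) = Nat.card ↥(P : Subgroup ↥Ce) from
          Subgroup.card_map_of_injective Subtype.val_injective,
        ← Nat.card_congr (subgroupOfEquivOfLe hAe).toEquiv]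
      exact lt_of_le_of_ne (Subgroup.card_le_of_le hlt.le)
        fun h => hlt.ne (Subgroup.eq_of_le_of_card_ge hlt.le h.ge)
    obtain ⟨S', hS'⟩ := (P.2.map Ce.subtype).exists_le_sylow
    obtain ⟨k, hk⟩ := MulAction.exists_smul_eq G S' S
    set P₁ := ((P : Subgroup ↥Ce).map Ce.subtype).map (MulAut.conj k).toMonoidHom with hP₁
    have hP₁S : P₁ ≤ (S : Subgroup G) := by
      rintro _ ⟨t, ht, rfl⟩
      rw [← hk, Sylow.coe_subgroup_smul]
      exact ⟨t, hS' ht, rfl⟩
    have hP₁eq : P₁ = (S : Subgroup G) := by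
      refine Subgroup.eq_of_le_of_card_ge hP₁S ?_
      rw [hP₁, Subgroup.card_map_of_injective (MulAut.conj k).injective, ← hSc]
      obtain ⟨a, ha⟩ := IsPGroup.iff_card.mp (S.2.to_le hAGS)
      obtain ⟨b, hb⟩ := IsPGroup.iff_card.mp (P.2.map Ce.subtype)
      rw [ha, hb] at hc1 ⊢
      rw [← pow_succ]
      exact Nat.pow_le_pow_right two_pos ((Nat.pow_lt_pow_iff_right one_lt_two).mp hc1)
    have heP : e ∈ (AG.subgroupOf Ce).map Ce.subtype := ⟨⟨e, hAe he⟩, he, rfl⟩
    have hkeS : k * e * k⁻¹ ∈ (S : Subgroup G) := hP₁S ⟨e, Subgroup.map_mono hP heP, rfl⟩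
    have hkec : (⟨_, hkeS⟩ : ↥(S : Subgroup G)) ∈ center ↥(S : Subgroup G) := by
      refine Subgroup.mem_center_iff.mpr fun s => Subtype.ext ?_
      have hs : (s : G) ∈ P₁ := hP₁eq.symm ▸ s.2
      obtain ⟨t, ⟨t, ht, rfl⟩, hts⟩ := hs
      show (s : G) * (k * e * k⁻¹) = k * e * k⁻¹ * s
      rw [← hts]
      show k * (t : G) * k⁻¹ * (k * e * k⁻¹) = k * e * k⁻¹ * (k * (t : G) * k⁻¹)
      calc k * (t : G) * k⁻¹ * (k * e * k⁻¹) = k * ((t : G) * e) * k⁻¹ := by group
        _ = k * (e * (t : G)) * k⁻¹ := by rw [mem_centralizer_singleton_iff.mp t.2]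
        _ = _ := by group
    obtain ⟨z', hz', hzz⟩ := hzc
    refine hez k ?_
    have h := hA.invol _ hkec z' hz' (Subtype.ext ?_) (Subtype.ext ?_) ?_ ?_
    · exact (congrArg Subtype.val h).trans hzz
    · calc k * e * k⁻¹ * (k * e * k⁻¹) = k * (e * e) * k⁻¹ := by group
        _ = 1 := by rw [he2]; group
    · simp only [coe_subtype] at hzz
      show (z' : G) * z' = 1
      rw [hzz, hz2]
    · intro e0
      apply he1
      simpa [mul_assoc] using congrArg (fun t : ↥(S : Subgroup G) => k⁻¹ * (t : G) * k) e0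
    · intro e0
      rw [e0] at hzz
      exact hz1 hzz.symm
  -- move `⟨u, y⟩` into `A`
  set B := closure ({h * u * h⁻¹, h * y * h⁻¹} : Set G)
  have hB2 : IsPGroup 2 ↥B := by
    have hle : B ≤ (S : Subgroup G).map (MulAut.conj h).toMonoidHom := by
      rw [closure_le]
      rintro t (rfl | rfl)
      exacts [⟨u, hg, rfl⟩, ⟨y, hyS, rfl⟩]
    exact (S.2.map _).to_le hle
  have hBe : B ≤ Ce := by
    rw [closure_le]
    rintro t (rfl | rfl) <;> refine mem_centralizer_singleton_iff.mpr ?_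
    · have huv : u * v = v * u := by
        rw [hv, mul_assoc u y⁻¹ u, (Commute.inv_right (hyc u hg)).symm.eq]
      rw [hedef]
      calc h * u * h⁻¹ * (h * v * h⁻¹) = h * (u * v) * h⁻¹ := by group
        _ = h * (v * u) * h⁻¹ := by rw [huv]
        _ = _ := by group
    · rw [hedef]
      calc h * y * h⁻¹ * (h * v * h⁻¹) = h * (y * v) * h⁻¹ := by group
        _ = h * (v * y) * h⁻¹ := by rw [hyc v hvS]
        _ = _ := by group
  obtain ⟨Q, hQ⟩ := (hB2.comap_subtype (K := Ce)).exists_le_sylow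
  obtain ⟨c, hc⟩ := MulAction.exists_smul_eq ↥Ce Q P
  have hmove : ∀ t ∈ B, (c : G) * t * (c : G)⁻¹ ∈ AG := fun t ht => by
    have h1 : (c * ⟨t, hBe ht⟩ * c⁻¹ : ↥Ce) ∈ (P : Subgroup ↥Ce) := by
      rw [← hc, Sylow.coe_subgroup_smul]
      exact ⟨⟨t, hBe ht⟩, hQ ht, rfl⟩
    rw [hPA, mem_subgroupOf] at h1
    simpa using h1
  have hy' := hmove (h * y * h⁻¹) (subset_closure (by simp))
  have hu' := hmove (h * u * h⁻¹) (subset_closure (by simp))
  have e1 := caseA y hy ((c : G) * h) (by simpa [mul_assoc] using hy')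
  have e2 := caseA y hy ((c : G) * h * g) (by simpa [hu, mul_assoc] using hu')
  apply huA
  have : u = y := by
    apply (MulAut.conj ((c : G) * h)).injective
    show (c : G) * h * u * ((c : G) * h)⁻¹ = (c : G) * h * y * ((c : G) * h)⁻¹
    rw [e1, hu]
    calc (c : G) * h * (g * y * g⁻¹) * ((c : G) * h)⁻¹
        = (c : G) * h * g * y * ((c : G) * h * g)⁻¹ := by group
      _ = y := e2
  rw [this]; exact hyA

/-- Elements of `Z*` in `S` generate a normal subgroup modulo the core. -/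
theorem oddCore_sup_normal (Z : Subgroup G) (hZ : ∀ c ∈ Z, Cfsg.InZStar 2 c) :
    (Cfsg.oddCore G ⊔ Z).Normal := by
  refine ⟨fun a ha g => ?_⟩
  have hle : oddCore G ⊔ Z ≤ (oddCore G ⊔ Z).comap (MulAut.conj g).toMonoidHom := by
    refine sup_le (fun o ho => ?_) (fun c hc => ?_)
    · exact Subgroup.mem_sup_left ((inferInstance : (oddCore G).Normal).conj_mem o ho g)
    · show g * c * g⁻¹ ∈ oddCore G ⊔ Z
      rw [show g * c * g⁻¹ = g * c * g⁻¹ * c⁻¹ * c by group]
      exact mul_mem (Subgroup.mem_sup_left (hZ c hc g)) (Subgroup.mem_sup_right hc)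
  exact hle ha

theorem exists_core_mul_centralizer {Z : Subgroup G} (hZp : IsPGroup 2 ↥Z)
    (hZ : ∀ c ∈ Z, Cfsg.InZStar 2 c) (h : G) :
    ∃ o ∈ Cfsg.oddCore G, ∃ c ∈ centralizer (Z : Set G), h = o * c := by
  have : Fact (Nat.Prime 2) := ⟨Nat.prime_two⟩
  set M := oddCore G ⊔ Z with hM
  haveI : M.Normal := oddCore_sup_normal Z hZ
  -- `Z` is a Sylow 2-subgroup of `M`
  have hidx : ¬ 2 ∣ (Z.subgroupOf M).index := by
    intro hd
    have h1 := (Z.subgroupOf M).card_mul_index
    rw [Nat.card_congr (subgroupOfEquivOfLe (le_sup_right : Z ≤ M)).toEquiv] at h1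
    have h2 : Nat.card ↥Z * (Z.subgroupOf M).index ∣ Nat.card ↥Z * Nat.card ↥(oddCore G) := by
      rw [h1, mul_comm]
      exact PCore.card_sup_dvd (oddCore G) Z
    exact Nat.not_even_iff_odd.mpr (PCore.odd_card_oddCore (G := G))
      (even_iff_two_dvd.mpr (hd.trans (Nat.dvd_of_mul_dvd_mul_left Nat.card_pos h2)))
  have hT : IsPGroup 2 ↥(Z.subgroupOf M) := hZp.comap_subtype
  have hfr := Sylow.normalizer_sup_eq_top (hT.toSylow hidx)
  have hmap : ((hT.toSylow hidx : Sylow 2 ↥M) : Subgroup ↥M).map M.subtype = Z := by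
    show (Z.subgroupOf M).map M.subtype = Z
    rw [subgroupOf_map_subtype, inf_of_le_left le_sup_right]
  rw [hmap] at hfr
  have hcent : normalizer (Z : Set G) ≤ centralizer (Z : Set G) := by
    intro n hn
    rw [mem_centralizer_iff]
    intro c hc
    have h1 : n * c * n⁻¹ * c⁻¹ ∈ oddCore G := hZ c hc n
    have h2 : n * c * n⁻¹ * c⁻¹ ∈ Z := mul_mem ((mem_normalizer_iff.mp hn c).mp hc) (inv_mem hc)
    obtain ⟨k, hk⟩ := hZp ⟨_, h2⟩
    have h4 : orderOf (n * c * n⁻¹ * c⁻¹) ∣ 2 ^ k := orderOf_dvd_of_pow_eq_one (congrArg Subtype.val hk)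
    have h5 : orderOf (n * c * n⁻¹ * c⁻¹) ∣ Nat.card (oddCore G) := Subgroup.orderOf_dvd_natCard _ h1
    have h6 := orderOf_eq_one_iff.mp (Nat.eq_one_of_dvd_coprimes
      ((Nat.coprime_two_left.mpr (PCore.odd_card_oddCore (G := G))).pow_left k) h4 h5)
    rw [mul_inv_eq_one, mul_inv_eq_iff_eq_mul] at h6
    exact h6.symm
  have htop : centralizer (Z : Set G) ⊔ oddCore G = ⊤ := by
    rw [eq_top_iff, ← hfr]
    refine sup_le (hcent.trans le_sup_left) (sup_le le_sup_right ?_)
    intro c hc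
    refine Subgroup.mem_sup_left (mem_centralizer_iff.mpr fun d hd => ?_)
    have h1 : d * c * d⁻¹ * c⁻¹ ∈ oddCore G := hZ c hc d
    have h2 : d * c * d⁻¹ * c⁻¹ ∈ Z := mul_mem (mul_mem (mul_mem hd hc) (inv_mem hd)) (inv_mem hc)
    obtain ⟨k, hk⟩ := hZp ⟨_, h2⟩
    have h4 : orderOf (d * c * d⁻¹ * c⁻¹) ∣ 2 ^ k := orderOf_dvd_of_pow_eq_one (congrArg Subtype.val hk)
    have h5 : orderOf (d * c * d⁻¹ * c⁻¹) ∣ Nat.card (oddCore G) := Subgroup.orderOf_dvd_natCard _ h1
    have h6 := orderOf_eq_one_iff.mp (Nat.eq_one_of_dvd_coprimes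
      ((Nat.coprime_two_left.mpr (PCore.odd_card_oddCore (G := G))).pow_left k) h4 h5)
    rwa [mul_inv_eq_one, mul_inv_eq_iff_eq_mul] at h6
  have hmem : h ∈ centralizer (Z : Set G) ⊔ oddCore G := htop ▸ mem_top h
  obtain ⟨o, ho, c, hc, hoc⟩ := (Coprime.mem_sup_iff_of_le_normalizer' (N := oddCore G)
    (normalizer_eq_top (H := oddCore G) ▸ le_top)).mp hmem
  exact ⟨o, ho, c, hc, hoc.symm⟩

/-- Centre of a quasi-dihedral or wreathed Sylow 2-subgroup with an isolated involution. -/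
theorem center_inZStar (S : Sylow 2 G)
    (hS : Cfsg.IsQuasiDihedral (S : Subgroup G) ∨ Cfsg.IsWreathed (S : Subgroup G)) {z : G}
    (hzS : z ∈ (S : Subgroup G)) (hz : Cfsg.IsIsolatedInvolution z) :
    ∀ c ∈ (center ↥(S : Subgroup G)).map (S : Subgroup G).subtype, Cfsg.InZStar 2 c := by
  intro c hc
  rcases hS with hQ | hW
  · obtain ⟨x, y, m, hg⟩ := TwoGroups.exists_qdGen hQ
    obtain ⟨c', hc', rfl⟩ := hc
    obtain ⟨⟨z', hz', e⟩, -⟩ := isolated_central S hzS hz
    have h2 := hg.card_center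
    rw [Nat.card_eq_two_iff' (1 : ↥(center ↥(S : Subgroup G)))] at h2
    obtain ⟨w, -, hw⟩ := h2
    by_cases hc1 : c' = 1
    · subst hc1
      intro g
      rw [show g * (S : Subgroup G).subtype 1 * g⁻¹ * ((S : Subgroup G).subtype 1)⁻¹ = 1 by simp]
      exact one_mem _
    have hz1 : z' ≠ 1 := fun e0 => by
      subst e0
      have h := hz.1
      rw [← e, map_one, orderOf_one] at h
      omega
    have heq : c' = z' := congrArg Subtype.val ((hw ⟨c', hc'⟩ fun e0 => hc1 (congrArg Subtype.val e0)).trans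
      (hw ⟨z', hz'⟩ fun e0 => hz1 (congrArg Subtype.val e0)).symm)
    rw [heq, e]
    exact ZStar.inZStar hz
  · obtain ⟨A, hA⟩ := exists_data hW
    refine ZStar.FusionCentre.inZStar_aux ZStar.zStarThm (Nat.card G) G rfl S c (commute_center hc).1 fun y hy g hg => ?_
    exact conj_eq_of_center S hA hzS hz (Subgroup.zpowers_le.mpr hc hy) g hg

end Cfsg.Agent.WreathedCentre
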